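import Cfsg.Agent.H86.MTwentyTwo.FiveSeven.Rows

/-!
The possible centralisers of Sylow 5- and 7-subgroups of a simple group of order 443520.
-/

set_option linter.unusedSectionVars false
set_option linter.style.haveILetI false

open scoped ComplexConjugate Classical

namespace Cfsg.Agent.H86.MTwentyTwo.FiveSeven

open CharBasic Subgroup BlockBasic

universe u

/-- The possible automizers and centralisers: `l` is the `p'`-part of the centraliser. -/
def coCheck (p Q e₀ : ℕ) : Bool :=
  (List.range 1153).all fun l => (List.range p).all fun e =>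
    !(decide (2 ≤ e) && (p - 1) % e == 0 && 1152 % l == 0 && Q % (e * l) == 0 && Q / (e * l) % p == 1) ||
      (l == 1 && e == e₀) || (l % 2 == 0 && (coList p e).contains l)

theorem coCheck5 : coCheck 5 88704 4 = true := by decide +kernel

theorem coCheck7 : coCheck 7 63360 3 = true := by decide +kernel

variable {G : Type u} [Group G] [Fintype G] [IsSimpleGroup G]

/-- The automizer is nontrivial. -/
theorem two_le_e {p : ℕ} [hp : Fact p.Prime] (D : SmallExc.PBlk G p) (hna : ¬ IsMulCommutative G) :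
    2 ≤ D.e := by
  obtain ⟨θ, hθ⟩ := D.Y_nonempty
  by_contra h
  have hlen := length_signedX D
  have h0 : signedX D = [] := List.length_eq_zero_iff.1 (by omega)
  have h1 := sum_signedX D hθ
  rw [h0, List.sum_nil, add_zero] at h1
  have h2 := two_le_degree hna (Y_ne_triv D hθ)
  rcases D.hε with e | e <;> rw [e] at h1 <;> omega

theorem cent_eq_of_coSize {p : ℕ} [hp : Fact p.Prime] (D : SmallExc.PBlk G p) (h : coSize D = 1) :
    Cent D = (D.P : Subgroup G) := by
  refine (eq_of_le_of_card_ge (le_cent D) ?_).symm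
  rw [card_cent D, h, mul_one]
  exact (show Nat.card (D.P : Subgroup G) = p from D.card_P).ge

theorem exists_order_cent {p : ℕ} [hp : Fact p.Prime] (D : SmallExc.PBlk G p) {r : ℕ} (hr : r.Prime)
    (h : r ∣ coSize D) : ∃ y ∈ Cent D, orderOf y = r := by
  haveI := Fact.mk hr
  obtain ⟨y, hy⟩ := exists_prime_orderOf_dvd_card' (G := Cent D) r (card_cent D ▸ h.mul_left p)
  exact ⟨y, y.2, (Subgroup.orderOf_coe y).trans hy⟩

/-- The `p'`-part of the centraliser is prime to 11. -/
theorem not_eleven (hG : IsM22 G) {p : ℕ} [hp : Fact p.Prime] (D : SmallExc.PBlk G p) (hp11 : p ≠ 11) :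
    ¬ 11 ∣ coSize D := by
  haveI : Fact (Nat.Prime 11) := ⟨by norm_num⟩
  intro h
  obtain ⟨y, hy, hyo⟩ := exists_order_cent D (by norm_num) h
  obtain ⟨x, hx, hx1⟩ := D.exists_ne_one
  obtain ⟨E, hyE⟩ := ThirtyFive.exists_block (p := 11) (by norm_num) (by norm_num)
    (show Nat.card G = 443520 from hG.2) hyo
  have hy1 : y ≠ 1 := fun e => by rw [e, orderOf_one] at hyo; norm_num at hyo
  have hxE : x ∈ Cent E := by
    rw [← centralizer_mem E hyE hy1, mem_centralizer_singleton_iff]
    exact (commute_mem D hx hy).eq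
  rw [show Cent E = (E.P : Subgroup G) from (eleven hG E.P).1] at hxE
  have h1 := orderOf_mem E hxE hx1
  rw [orderOf_mem D hx hx1] at h1
  exact hp11 h1

/-- The `p'`-part of the centraliser is prime to `q` if `p q = 35`. -/
theorem not_other (hG : IsM22 G) {p q : ℕ} [hp : Fact p.Prime] (hq : q.Prime) (hpq : p * q = 35)
    (hne : p ≠ q) (D : SmallExc.PBlk G p) : ¬ q ∣ coSize D := by
  intro h
  obtain ⟨y, hy, hyo⟩ := exists_order_cent D hq h
  obtain ⟨x, hx, hx1⟩ := D.exists_ne_one
  refine no_thirtyFive hG (x * y) ?_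
  rw [(commute_mem D hx hy).orderOf_mul_eq_mul_orderOf_of_coprime
    (by rw [orderOf_mem D hx hx1, hyo]; exact (Nat.coprime_primes hp.out hq).2 hne),
    orderOf_mem D hx hx1, hyo, hpq]

/-- The cases for the centraliser. -/
theorem co_cases (hG : IsM22 G) {p q Q e₀ : ℕ} [hp : Fact p.Prime] (hq : q.Prime) (hpq : p * q = 35)
    (hne : p ≠ q) (hp11 : p ≠ 11) (hQ : p * Q = 443520) (hQ' : Q = 1152 * (q * 11))
    (hchk : coCheck p Q e₀ = true) (D : SmallExc.PBlk G p) :
    (coSize D = 1 ∧ D.e = e₀) ∨ (2 ∣ coSize D ∧ coSize D ∈ coList p D.e) := by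
  have hn : D.e * D.g * (p * coSize D) = 443520 := (e_mul_g_mul D).trans hG.2
  have hQe : Q = D.e * coSize D * D.g := by
    refine Nat.eq_of_mul_eq_mul_left hp.out.pos ?_
    rw [hQ, ← hn]; ring
  have hlQ : coSize D ∣ Q := ⟨D.e * D.g, by rw [hQe]; ring⟩
  have hl : coSize D ∣ 1152 := by
    refine Nat.Coprime.dvd_of_dvd_mul_right ?_ (hQ' ▸ hlQ)
    exact Nat.Coprime.mul_right ((hq.coprime_iff_not_dvd.2 (not_other hG hq hpq hne D)).symm)
      (((by norm_num : Nat.Prime 11).coprime_iff_not_dvd.2 (not_eleven hG D hp11)).symm)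
  have hle := Nat.le_of_dvd (by norm_num) hl
  have he := D.e_le
  have hp2 := hp.out.two_le
  have h := List.all_eq_true.1 hchk (coSize D) (List.mem_range.2 (by omega))
  rw [List.all_eq_true] at h
  have h1 := h D.e (List.mem_range.2 (by omega))
  have hg : D.g % p = 1 := by
    have h2 := card_sylow_modEq_one p G
    rw [Nat.ModEq, Nat.one_mod_eq_one.2 hp.out.ne_one] at h2
    exact h2
  have hc : (decide (2 ≤ D.e) && (p - 1) % D.e == 0 && 1152 % coSize D == 0 &&
      Q % (D.e * coSize D) == 0 && Q / (D.e * coSize D) % p == 1) = true := by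
    simp only [Bool.and_eq_true, decide_eq_true_eq, beq_iff_eq]
    have hl0 : 0 < coSize D := Nat.pos_of_dvd_of_pos hl (by norm_num)
    refine ⟨⟨⟨⟨two_le_e D (not_comm_of_isM22 hG), Nat.mod_eq_zero_of_dvd D.e_dvd⟩,
      Nat.mod_eq_zero_of_dvd hl⟩, Nat.mod_eq_zero_of_dvd ⟨D.g, hQe⟩⟩, ?_⟩
    rw [Nat.div_eq_of_eq_mul_right (Nat.mul_pos D.e_pos hl0) hQe, hg]
  rw [hc, Bool.not_true, Bool.false_or] at h1
  simp only [Bool.or_eq_true, Bool.and_eq_true, beq_iff_eq, List.contains_iff_mem] at h1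
  rcases h1 with ⟨h2, h3⟩ | ⟨h2, h3⟩
  · exact Or.inl ⟨h2, h3⟩
  · exact Or.inr ⟨Nat.dvd_of_mod_eq_zero h2, h3⟩

/-- No involution centralising a Sylow 7-subgroup with `p'`-part 4 has centraliser of order 896. -/
theorem no_896 (hN : Nat.card G = 443520) [Fact (Nat.Prime 7)] (D : SmallExc.PBlk G 7)
    (hl : coSize D = 4) {z : G} (hz : z ∈ Cent D) (hz2 : orderOf z = 2) :
    Nat.card (centralizer ({z} : Set G)) ≠ 896 := by
  intro hc
  set K := centralizer ({z} : Set G) with hK
  set A := Cent D with hA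
  have hA28 : Nat.card A = 28 := by rw [hA, card_cent D, hl]
  haveI : Fact (Nat.Prime 2) := ⟨Nat.prime_two⟩
  -- the centraliser of P is contained in that of z
  have hAK : A ≤ K := by
    let Q : Subgroup A := (D.P : Subgroup G).subgroupOf A
    haveI hQn : Q.Normal := ⟨fun a ha g => by
      rw [mem_subgroupOf] at ha ⊢
      have h := (commute_mem D ha g.2).eq
      push_cast
      rw [← h, mul_inv_cancel_right]
      exact ha⟩
    have hQc : Nat.card Q = 7 := by
      rw [Nat.card_congr (subgroupOfEquivOfLe (le_cent D)).toEquiv]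
      exact D.card_P
    have hquot : Nat.card (A ⧸ Q) = 2 ^ 2 := by
      have h := Q.card_eq_card_quotient_mul_card_subgroup
      rw [hQc, hA28] at h
      omega
    intro a ha
    have hcm : (QuotientGroup.mk' Q) ⟨a, ha⟩ * QuotientGroup.mk' Q ⟨z, hz⟩ =
        QuotientGroup.mk' Q ⟨z, hz⟩ * QuotientGroup.mk' Q ⟨a, ha⟩ :=
      (IsPGroup.isMulCommutative_of_card_eq_prime_sq hquot).is_comm.comm _ _
    rw [← map_mul, ← map_mul, QuotientGroup.mk'_apply, QuotientGroup.mk'_apply, eq_comm,
      QuotientGroup.eq] at hcm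
    rw [mem_subgroupOf] at hcm
    push_cast at hcm
    set w := (z * a)⁻¹ * (a * z) with hw
    have h1 : a * z = z * a * w := by rw [hw]; group
    have hconj : a⁻¹ * z * a = z * w⁻¹ := by
      have : w⁻¹ = z⁻¹ * a⁻¹ * z * a := by rw [hw]; group
      rw [this]; group
    have hzz : z * z = 1 := by rw [← sq, ← hz2, pow_orderOf_eq_one]
    have h2 : (z * w⁻¹) * (z * w⁻¹) = 1 := by
      rw [← hconj]
      calc a⁻¹ * z * a * (a⁻¹ * z * a) = a⁻¹ * (z * z) * a := by group
        _ = 1 := by rw [hzz]; group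
    have hwz : Commute w z := commute_mem D hcm hz
    have h3 : w⁻¹ * w⁻¹ = 1 := by
      rw [← h2]
      calc w⁻¹ * w⁻¹ = z * z * (w⁻¹ * w⁻¹) := by rw [hzz, one_mul]
        _ = z * (z * w⁻¹) * w⁻¹ := by group
        _ = z * (w⁻¹ * z) * w⁻¹ := by rw [hwz.inv_left.eq]
        _ = z * w⁻¹ * (z * w⁻¹) := by group
    have hw1 : w = 1 := by
      by_contra hne
      have h4 := orderOf_dvd_of_pow_eq_one (x := w⁻¹) (n := 2) (by rw [sq]; exact h3)
      rw [orderOf_inv, orderOf_mem D hcm hne] at h4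
      norm_num at h4
    rw [mem_centralizer_singleton_iff, h1, hw1, mul_one]
  have hPK : (D.P : Subgroup G) ≤ K := (le_cent D).trans hAK
  let P' : Sylow 7 K := D.P.subtype hPK
  set M := normalizer (D.P : Set G) ⊓ K with hM
  have hAM : A ≤ M := le_inf (centralizer_le_normalizer _) hAK
  have hdvd1 : Nat.card M ∣ 896 := hc ▸ card_dvd_of_le inf_le_right
  have hdvd2 : 28 ∣ Nat.card M := hA28 ▸ card_dvd_of_le hAM
  have hdvd3 : Nat.card M ∣ 28 * 6 := by
    refine (card_dvd_of_le (inf_le_left (b := K))).trans ?_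
    have h1 : (centralizer ((D.P : Subgroup G) : Set G)).relIndex (normalizer (D.P : Set G)) *
        Nat.card A = Nat.card (normalizer (D.P : Set G)) := by
      rw [hA, relIndex, ← Nat.card_congr (subgroupOfEquivOfLe
        (centralizer_le_normalizer ((D.P : Subgroup G) : Set G))).toEquiv]
      exact index_mul_card _
    rw [← h1, relIndex_eq_of_e D, hA28, mul_comm]
    exact mul_dvd_mul_left _ (show D.e ∣ 7 - 1 from D.e_dvd)
  have hn : Nat.card (Sylow 7 K) * Nat.card M = 896 := by
    rw [Sylow.card_eq_index_normalizer P']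
    have h1 : normalizer (P' : Set K) = (normalizer (D.P : Set G)).subgroupOf K := by
      show normalizer (((D.P : Subgroup G).subgroupOf K : Subgroup K) : Set K) = _
      exact (subgroupOf_normalizer_eq hPK).symm
    rw [h1, ← hc, hM, ← Nat.card_congr (subgroupOfEquivOfLe (inf_le_right (a := normalizer (D.P : Set G)))).toEquiv,
      inf_subgroupOf_right]
    exact index_mul_card _
  have hmod : Nat.card (Sylow 7 K) % 7 = 1 := card_sylow_modEq_one 7 K
  have hle := Nat.le_of_dvd (by norm_num) hdvd3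
  obtain ⟨k, hk⟩ := hdvd2
  rw [hk] at hdvd3 hn hle hdvd1
  have hk6 : k ∣ 6 := Nat.dvd_of_mul_dvd_mul_left (by norm_num) hdvd3
  have hk32 : k ∣ 32 := Nat.dvd_of_mul_dvd_mul_left (k := 28) (by norm_num) (by norm_num; exact hdvd1)
  have hk2 : k ∣ 2 := by simpa using Nat.dvd_gcd hk6 hk32
  rcases (Nat.dvd_prime Nat.prime_two).1 hk2 with rfl | rfl <;> omega
where
  relIndex_eq_of_e (D : SmallExc.PBlk G 7) [Fact (Nat.Prime 7)] :
      (centralizer ((D.P : Subgroup G) : Set G)).relIndex (normalizer (D.P : Set G)) = D.e := rfl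

end Cfsg.Agent.H86.MTwentyTwo.FiveSeven
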