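import Cfsg.Agent.H86.MTwentyTwo.FiveSeven.Tables

/-!
The blocks of 5 and 7 cannot both have centralising involutions.
-/

set_option autoImplicit false
set_option maxRecDepth 100000

namespace Cfsg.Agent.H86.MTwentyTwo.FiveSeven

open Table

/-- The degrees in the block of 11 required by a centralising involution at the other prime. -/
def required : ℕ → List ℕ
  | 5 => [120, 45]
  | 7 => [21, 144, 126]
  | _ => []

/-- The forced members are among the tables. -/
def forcedCheck (p : ℕ) (rows : List (ℕ × ℕ × List (ℤ × ℤ))) (req : List ℕ)
    (forced : List (ℕ × (ℕ × ℤ))) : Bool :=
  rows.all fun r =>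
    let M := members p r.2.1 r.2.2
    (M.any fun a => req.contains a.1) &&
      match M.find? (fun a => !(a.1 % 11 == 0)) with
      | some a => forced.contains (r.1, a)
      | none => false

/-- The block of 11 at a centralising involution, given a forced member. -/
def keyCheck (p : ℕ) (forced : List (ℕ × (ℕ × ℤ))) (keys : List (ℤ × ℤ)) : Bool :=
  forced.all fun f =>
    let c := f.1
    let h := N / c
    let a := f.2
    degs11.all fun Ds =>
      let m := memD 11 5 Ds
      !(m.contains a.1 && (required p).any fun d => m.contains d) ||
        vals c (fun F => pin [a] Ds F (freeVals p c h F)) Ds 1 fun L =>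
          !(selfOK 11 5 p c h L && (members 11 5 L).contains a) ||
            keys.contains (excT (degsOf L), ((degsOf L).map fun F => F * F).sum)

theorem forced5_complete : forcedCheck 5 rows5 (required 7) forced5 = true := by decide +kernel
theorem forced7_complete : forcedCheck 7 rows7 (required 5) forced7 = true := by decide +kernel
theorem keys5_complete : keyCheck 5 forced5 keys5 = true := by decide +kernel
theorem keys7_complete : keyCheck 7 forced7 keys7 = true := by decide +kernel
theorem keys_disjoint : (keys5.all fun k => !keys7.contains k) = true := by decide +kernel

end Cfsg.Agent.H86.MTwentyTwo.FiveSeven
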