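import Cfsg.Agent.H86.MTwentyTwo.FiveSeven.Tables

/-!
Completeness of the tables of degrees.
-/

set_option autoImplicit false
set_option maxRecDepth 100000

namespace Cfsg.Agent.H86.MTwentyTwo.FiveSeven

open Table

/-- Completeness of a table of signed degrees. -/
def candCheck (p M : ℕ) (sm : Bool) (l : List ℤ) : Bool :=
  (List.range 666).all fun d => [(d : ℤ), -(d : ℤ)].all fun F => !(candOK p M sm F) || l.contains F

/-- Completeness of a table of degree lists with a centralising involution. -/
def sideDegCheck (p e : ℕ) (cand : List ℤ) (tbl : List (List ℤ)) : Bool :=
  (combos cand (e - 1)).all fun Ds => !(sideDeg p e Ds) || tbl.contains Ds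

/-- Completeness of a table of degree lists. -/
def degCheck (q e : ℕ) (cand : List ℤ) (tbl : List (List ℤ)) : Bool :=
  (combos cand (e - 1)).all fun Ds => !(excDeg q e Ds) || tbl.contains Ds

theorem cand5Side_complete : candCheck 5 44352 true cand5Side = true := by decide +kernel
theorem cand7Side_complete : candCheck 7 31680 true cand7Side = true := by decide +kernel
theorem cand5_complete : candCheck 5 N false cand5 = true := by decide +kernel
theorem cand7_complete : candCheck 7 N false cand7 = true := by decide +kernel
theorem cand11_complete : candCheck 11 N false cand11 = true := by decide +kernel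
theorem degs5E2_complete : sideDegCheck 5 2 cand5Side degs5E2 = true := by decide +kernel
theorem degs5E4_complete : sideDegCheck 5 4 cand5Side degs5E4 = true := by decide +kernel
theorem degs7E2_complete : sideDegCheck 7 2 cand7Side degs7E2 = true := by decide +kernel
theorem degs7E3_complete : sideDegCheck 7 3 cand7Side degs7E3 = true := by decide +kernel
theorem degs7E6_complete : sideDegCheck 7 6 cand7Side degs7E6 = true := by decide +kernel
theorem degs5_complete : degCheck 5 4 cand5 degs5 = true := by decide +kernel
theorem degs7_complete : degCheck 7 3 cand7 degs7 = true := by decide +kernel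
theorem degs11_complete : degCheck 11 5 cand11 degs11 = true := by decide +kernel

end Cfsg.Agent.H86.MTwentyTwo.FiveSeven
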