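import Cfsg.Agent.H86.MTwentyTwo.FiveSeven.Tables

/-!
An involution centralising a Sylow 5-subgroup when the Sylow 7-subgroups are self-centralising.
-/

set_option autoImplicit false
set_option maxRecDepth 100000

namespace Cfsg.Agent.H86.MTwentyTwo.FiveSeven

open Table

/-- The blocks of 7 at these involutions. -/
def self7Check : Bool :=
  orders5.all fun c =>
    let h := N / c
    degs7.all fun Ds => vals c (freeVals 5 c h) Ds 1 fun L =>
      !(selfOK 7 3 5 c h L) || self7.contains (c, L)

/-- The block of 11 contradicts the blocks of 5 and 7. -/
def fiveCheck : Bool :=
  rows5.all fun r =>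
    let c := r.1
    let h := N / c
    orders5.contains c &&
    let Mp := members 5 r.2.1 r.2.2
    self7.all fun s => !(s.1 == c) ||
      let Mq := members 7 3 s.2
      let mq := memD 7 3 (degsOf s.2)
      !(cross 7 Mp Mq) ||
      let req := (Mp ++ Mq).filter fun a => !(a.1 % 11 == 0)
      degs11.all fun Ds =>
        let m := memD 11 5 Ds
        !((req.all fun a => m.contains a.1) && (m.all fun d => d % 7 == 0 || mq.contains d)) ||
          vals c (fun F =>
            let us := pin req Ds F (freeVals 5 c h F)
            if F.natAbs % 7 == 0 then us else us.filter fun u => Mq.contains (absP (F, u))) Ds 1 fun L =>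
            !(selfOK 11 5 5 c h L) ||
              let M := members 11 5 L
              !((req.all fun a => M.contains a) && cross 7 M Mq)

theorem self7_complete : self7Check = true := by decide +kernel
theorem five_none : fiveCheck = true := by decide +kernel

end Cfsg.Agent.H86.MTwentyTwo.FiveSeven
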