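import Cfsg.Agent.H86.MTwentyTwo.FiveSeven.Tables

/-!
An involution centralising a Sylow 7-subgroup when the Sylow 5-subgroups are self-centralising.
-/

set_option autoImplicit false
set_option maxRecDepth 100000

namespace Cfsg.Agent.H86.MTwentyTwo.FiveSeven

open Table

/-- The degree lists for 5 compatible with those for 7 and 11. -/
def compat5 (m7 m11 : List ℕ) : List (List ℤ) :=
  degs5.filter fun Ds =>
    let m5 := memD 5 4 Ds
    ((m7 ++ m11).all fun d => d % 5 == 0 || m5.contains d) &&
      (m5.all fun d => d % 11 == 0 || m11.contains d) &&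
      decide (1 + (((m11 ++ m5.filter fun d => d % 11 == 0) ++ m7.filter fun d => d % 55 == 0).map
        fun d => (d : ℤ) * (d : ℤ)).sum ≤ (N : ℤ))

/-- The blocks of 5 and 11 contradict one block of 7. -/
def sevenCheckRow (r : ℕ × ℕ × List (ℤ × ℤ)) : Bool :=
  let c := r.1
  let h := N / c
  let Mp := members 7 r.2.1 r.2.2
  let req := Mp.filter fun a => !(a.1 % 11 == 0)
  degs11.all fun Ds =>
    let m := memD 11 5 Ds
    !(req.all fun a => m.contains a.1) ||
      let l5 := compat5 (Mp.map Prod.fst) m
      l5.isEmpty ||
      vals c (fun F => pin req Ds F (freeVals 7 c h F)) Ds 1 fun L =>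
        !(selfOK 11 5 7 c h L) ||
          let M := members 11 5 L
          !(req.all fun a => M.contains a) ||
            let r5 := (Mp ++ M).filter fun a => !(a.1 % 5 == 0)
            l5.all fun D5 => vals c (fun F => pin r5 D5 F (freeVals 7 c h F)) D5 1 fun L5 =>
              !(selfOK 5 4 7 c h L5) ||
                let M5 := members 5 4 L5
                !(cross 5 r5 M5 && cross 11 M5 M) ||
                  decide ((c : ℤ) < 1 + (((M ++ M5.filter fun a => a.1 % 11 == 0) ++
                    Mp.filter fun a => a.1 % 55 == 0).map fun a => a.2 * a.2).sum)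

theorem seven_none3 : (rows7E3.all fun r => sevenCheckRow (r.1, 3, r.2)) = true := by decide +kernel
theorem seven_none6a : ((rows7E6.take 28).all fun r => sevenCheckRow (r.1, 6, r.2)) = true := by
  decide +kernel
theorem seven_none6b : ((rows7E6.drop 28).all fun r => sevenCheckRow (r.1, 6, r.2)) = true := by
  decide +kernel

end Cfsg.Agent.H86.MTwentyTwo.FiveSeven
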