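import Cfsg.Agent.H86.MTwentyTwo.FiveSeven.Tables

/-!
Completeness of the tables of blocks at a centralising involution.
-/

set_option autoImplicit false
set_option maxRecDepth 100000

namespace Cfsg.Agent.H86.MTwentyTwo.FiveSeven

open Table

/-- Products of bounded powers of the primes 2, 3, `r` and 11. -/
def smooth (r : ℕ) (a : ℕ) : List ℕ :=
  (List.range (a + 1)).flatMap fun i => (List.range 3).flatMap fun j => (List.range 2).flatMap fun k =>
    (List.range 2).map fun l => 2 ^ i * 3 ^ j * r ^ k * 11 ^ l

/-- The centraliser orders divided by `2 p`. -/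
def cofactors : ℕ → List ℕ
  | 5 => (smooth 7 6).filter fun k => decide (k < 44352)
  | 7 => (smooth 5 6).filter fun k => decide (k < 31680)
  | _ => []

/-- Completeness of a table of blocks at a centralising involution. -/
def sideCheck (p e : ℕ) (dg : List (List ℤ)) (tbl : List (ℕ × List (ℤ × ℤ))) : Bool :=
  (cofactors p).all fun k =>
    let c := 2 * p * k
    let h := N / c
    dg.all fun Ds => vals c (sideVals p c h) Ds 1 fun L => !(sideOK p e c h L) || tbl.contains (c, L)

theorem rows5E2_complete : sideCheck 5 2 degs5E2 rows5E2 = true := by decide +kernel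
theorem rows5E4_complete : sideCheck 5 4 degs5E4 rows5E4 = true := by decide +kernel
theorem rows7E3_complete : sideCheck 7 3 degs7E3 rows7E3 = true := by decide +kernel
theorem rows7E6_complete : sideCheck 7 6 degs7E6 rows7E6 = true := by decide +kernel

end Cfsg.Agent.H86.MTwentyTwo.FiveSeven
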