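import Mathlib.Data.List.Basic
import Mathlib.Data.List.Perm.Basic
import Mathlib.Data.List.Perm.Subperm
import Mathlib.Data.List.Dedup
import Mathlib.Data.Int.Basic
import Mathlib.Tactic.Linarith
import Mathlib.Tactic.Ring
import Mathlib.Algebra.BigOperators.Group.List.Basic

/-!
Search engine for principal blocks of a simple group of order 443520 at an involution.

An option `(F, u)` is a signed degree and a signed value; a member `(d, v)` is a degree and a value.
-/

set_option autoImplicit false

namespace Cfsg.Agent.H86.MTwentyTwo.FiveSeven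

/-- The group order. -/
def N : ℕ := 443520

/-- The residues modulo 11 of all degrees. -/
def res11 (d : ℕ) : Bool :=
  d % 11 == 0 || d % 11 == 1 || d % 11 == 10 || d % 11 == 5 || d % 11 == 6

/-- The excluded signed degrees. -/
def small (p : ℕ) (F : ℤ) : Bool :=
  F == 1 - (p : ℤ) || F == 1 - 2 * (p : ℤ) || F == (p : ℤ) + 1

/-- The exceptional signed degree. -/
def excT (Ds : List ℤ) : ℤ := 1 + Ds.sum

/-- The signed degrees of a list of options. -/
def degsOf (L : List (ℤ × ℤ)) : List ℤ := L.map Prod.fst

/-- The exceptional signed value. -/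
def excW (L : List (ℤ × ℤ)) : ℤ := 1 + (L.map Prod.snd).sum

/-- Sum of squares of values. -/
def sumSq2 (L : List (ℤ × ℤ)) : ℤ := (L.map fun o => o.2 * o.2).sum

/-- The member of an option. -/
def absP (o : ℤ × ℤ) : ℕ × ℤ := (o.1.natAbs, if 0 < o.1 then o.2 else -o.2)

/-- The members of a block. -/
def members (p e : ℕ) (L : List (ℤ × ℤ)) : List (ℕ × ℤ) :=
  L.map absP ++ List.replicate ((p - 1) / e) (absP (excT (degsOf L), excW L))

/-- The degrees of the members of a block. -/
def memD (p e : ℕ) (Ds : List ℤ) : List ℕ :=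
  Ds.map Int.natAbs ++ List.replicate ((p - 1) / e) (excT Ds).natAbs

theorem memD_degsOf (p e : ℕ) (L : List (ℤ × ℤ)) :
    memD p e (degsOf L) = (members p e L).map Prod.fst := by
  simp [memD, members, degsOf, absP, List.map_map, Function.comp_def]

/-- Conditions on a candidate signed degree. -/
def candOK (p M : ℕ) (sm : Bool) (F : ℤ) : Bool :=
  decide (2 ≤ F.natAbs) && N % F.natAbs == 0 && M % F.natAbs == 0 && (F - 1) % (p : ℤ) == 0 &&
    !(sm && small p F) && res11 F.natAbs

/-- Conditions on the exceptional signed degree. -/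
def excDeg (p e : ℕ) (Ds : List ℤ) : Bool :=
  let T := excT Ds
  decide (2 ≤ T.natAbs) && N % T.natAbs == 0 && (T - e) % (p : ℤ) == 0 && res11 T.natAbs &&
    decide (1 + (Ds.map fun F => F * F).sum + (((p - 1) / e : ℕ) : ℤ) * (T * T) ≤ (N : ℤ))

/-- Conditions on the degrees when the centraliser of the Sylow subgroup has `p'`-part `l`. -/
def idxOK (p e : ℕ) (Ds : List ℤ) (l : ℕ) : Bool :=
  Ds.all (fun F => N / (p * l) % F.natAbs == 0) && e * (N / (p * l)) % (excT Ds).natAbs == 0

/-- The possible even orders of the `p'`-part. -/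
def coList : ℕ → ℕ → List ℕ
  | 5, 2 => [2, 12, 32, 72, 192]
  | 5, 4 => [6, 16, 36, 96]
  | 7, 2 => [12, 96]
  | 7, 3 => [8, 64]
  | 7, 6 => [4, 32]
  | _, _ => []

/-- Conditions on the degrees at a prime with a centralising involution. -/
def sideDeg (p e : ℕ) (Ds : List ℤ) : Bool :=
  excDeg p e Ds && !(small p (-(((p - 1) / e : ℕ) : ℤ) * excT Ds)) && (coList p e).any (idxOK p e Ds)

/-- Conditions on an option at an involution. -/
def baseOK (c h : ℕ) (F u : ℤ) : Bool :=
  (F - u) % 4 == 0 && decide (u.natAbs < F.natAbs) && ((h : ℤ) * u) % F == 0 && decide (u * u < (c : ℤ))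

/-- The values at an involution centralising the Sylow subgroup. -/
def sideVals (p c h : ℕ) (F : ℤ) : List ℤ :=
  ((List.range (2 * (F.natAbs / p + 1) + 1)).map fun (i : ℕ) =>
    1 + (p : ℤ) * ((i : ℤ) - ((F.natAbs / p + 1 : ℕ) : ℤ))).filter fun u => baseOK c h F u

/-- The values at an involution centralising a Sylow `p`-subgroup of other characters. -/
def freeVals (p c h : ℕ) (F : ℤ) : List ℤ :=
  ((List.range (F.natAbs / 2 + 1)).map fun (i : ℕ) =>
    if 0 < F then F - 4 * (i : ℤ) else F + 4 * (i : ℤ)).filter fun u =>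
      baseOK c h F u && (!(F.natAbs % p == 0) || u % (p : ℤ) == 0)

/-- Conditions on the exceptional value. -/
def excVal (p e c h : ℕ) (L : List (ℤ × ℤ)) : Bool :=
  let T := excT (degsOf L)
  let w := excW L
  (T - w) % 4 == 0 && decide (w.natAbs < T.natAbs) && ((h : ℤ) * w) % T == 0 &&
    decide (1 + sumSq2 L + (((p - 1) / e : ℕ) : ℤ) * (w * w) ≤ (c : ℤ))

/-- The numerator of the square sum. -/
def sqNum (L : List (ℤ × ℤ)) : ℤ :=
  (N : ℤ) + (L.map fun o => (N : ℤ) / o.1 * (o.2 * o.2)).sum -
    (N : ℤ) / excT (degsOf L) * (excW L * excW L)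

/-- The square rule. -/
def sideSq (p e h : ℕ) (L : List (ℤ × ℤ)) (l : ℕ) : Bool :=
  if e % 2 == 1 then sqNum L == 0
  else (List.range (l + 1)).any fun k =>
    (p : ℤ) * (l : ℤ) * ((h : ℤ) * h) * sqNum L == ((p * k : ℕ) : ℤ) * (p * k : ℕ) * ((N : ℤ) * N)

/-- Conditions on a block at an involution centralising its Sylow subgroup. -/
def sideOK (p e c h : ℕ) (L : List (ℤ × ℤ)) : Bool :=
  excVal p e c h L && (excW L - e) % (p : ℤ) == 0 && (coList p e).any fun l =>
    !(p == 7 && l == 4 && c == 896) && idxOK p e (degsOf L) l && sideSq p e h L l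

/-- Conditions on a block with self-centralising Sylow `q`-subgroup, at an involution centralising
a Sylow `p`-subgroup. -/
def selfOK (q e p c h : ℕ) (L : List (ℤ × ℤ)) : Bool :=
  excVal q e c h L && (!((excT (degsOf L)).natAbs % p == 0) || excW L % (p : ℤ) == 0) &&
    ((sqNum L == 0) ||
      (e % 2 == 0 && (q : ℤ) * ((h : ℤ) * h) * sqNum L == (q : ℤ) * q * ((N : ℤ) * N)))

/-- Members of degree prime to `q` are members of the block of `q`. -/
def cross (q : ℕ) (A B : List (ℕ × ℤ)) : Bool := A.all fun a => a.1 % q == 0 || B.contains a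

/-- Restriction of the values at a degree by a list of required members. -/
def pin (req : List (ℕ × ℤ)) (Ds : List ℤ) (F : ℤ) (us : List ℤ) : List ℤ :=
  if Ds.countP (fun G => G.natAbs == F.natAbs) == 1 &&
      !((excT Ds).natAbs == F.natAbs) then
    us.filter fun u => req.all fun a => !(a.1 == F.natAbs) || absP (F, u) == a
  else us

/-- Search over the values. -/
def vals (c : ℤ) (opt : ℤ → List ℤ) : List ℤ → ℤ → (List (ℤ × ℤ) → Bool) → Bool
  | [], _, leaf => leaf []
  | F :: Fs, r, leaf => (opt F).all fun u =>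
      !(decide (r + u * u ≤ c)) || vals c opt Fs (r + u * u) fun L => leaf ((F, u) :: L)

theorem sumSq2_nonneg : ∀ L : List (ℤ × ℤ), 0 ≤ sumSq2 L
  | [] => le_refl 0
  | o :: L => by
    have := sumSq2_nonneg L
    simp only [sumSq2, List.map_cons, List.sum_cons] at *
    nlinarith [mul_self_nonneg o.2]

/-- Soundness of the search over the values. -/
theorem vals_sound {c : ℤ} {opt : ℤ → List ℤ} : ∀ (L : List (ℤ × ℤ)) (r : ℤ)
    (leaf : List (ℤ × ℤ) → Bool), vals c opt (degsOf L) r leaf = true →
      (∀ o ∈ L, o.2 ∈ opt o.1) → r + sumSq2 L ≤ c → leaf L = true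
  | [], r, leaf, h, _, _ => h
  | (F, u) :: L, r, leaf, h, hm, hr => by
    simp only [degsOf, List.map_cons, vals, List.all_eq_true] at h
    have hs : sumSq2 ((F, u) :: L) = u * u + sumSq2 L := by simp [sumSq2]
    have h1 := h u (hm (F, u) List.mem_cons_self)
    have h2 : r + u * u ≤ c := by have := sumSq2_nonneg L; omega
    rw [decide_eq_true h2, Bool.not_true, Bool.false_or] at h1
    exact vals_sound L _ _ h1 (fun o ho => hm o (List.mem_cons_of_mem _ ho)) (by omega)

/-- Multisets of size `k`, as lists. -/
def combos : List ℤ → ℕ → List (List ℤ)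
  | [], 0 => [[]]
  | [], _ + 1 => []
  | a :: l, k => (List.range (k + 1)).flatMap fun i => (combos l (k - i)).map (List.replicate i a ++ ·)

theorem mem_combos : ∀ (l : List ℤ) (L : List ℤ), (∀ F ∈ L, F ∈ l) →
    ∃ L' ∈ combos l L.length, L'.Perm L
  | [], L, h => by
    cases L with
    | nil => exact ⟨[], by simp [combos], List.Perm.refl _⟩
    | cons a L => exact absurd (h a List.mem_cons_self) List.not_mem_nil
  | a :: l, L, h => by
    set A := L.filter (fun x => x == a) with hA
    set B := L.filter (fun x => !(x == a)) with hB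
    have hp : (A ++ B).Perm L := List.filter_append_perm _ L
    obtain ⟨B', hB', hpB⟩ := mem_combos l B fun F hF => by
      obtain ⟨h1, h2⟩ := List.mem_filter.1 hF
      exact (List.mem_cons.1 (h F h1)).resolve_left (by simpa using h2)
    have hA' : A = List.replicate A.length a := List.eq_replicate_iff.2 ⟨rfl, fun x hx => by
      simpa using (List.mem_filter.1 hx).2⟩
    have hlen := hp.length_eq
    rw [List.length_append] at hlen
    refine ⟨List.replicate A.length a ++ B', ?_, ?_⟩
    · refine List.mem_flatMap.2 ⟨A.length, List.mem_range.2 (by omega), List.mem_map.2 ⟨B', ?_, rfl⟩⟩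
      rwa [show L.length - A.length = B.length by omega]
    · rw [← hA']
      exact (hpB.append_left _).trans hp

/-- A permutation can be made to realise a given permutation of the images. -/
theorem exists_perm_map_eq {α β : Type*} [DecidableEq α] (f : α → β) : ∀ (Ds : List β) (R : List α),
    (R.map f).Perm Ds → ∃ L : List α, L.Perm R ∧ L.map f = Ds
  | [], R, h => by
    refine ⟨R, List.Perm.refl _, ?_⟩
    exact h.eq_nil
  | d :: Ds, R, h => by
    obtain ⟨a, ha, rfl⟩ := List.mem_map.1 (h.mem_iff.2 List.mem_cons_self)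
    have hR := List.perm_cons_erase ha
    have h' : ((R.erase a).map f).Perm Ds := by
      have := (hR.map f).symm.trans h
      rw [List.map_cons] at this
      exact this.cons_inv
    obtain ⟨L, hL, hm⟩ := exists_perm_map_eq f Ds (R.erase a) h'
    exact ⟨a :: L, (hL.cons a).trans hR.symm, by rw [List.map_cons, hm]⟩

theorem members_perm {p e : ℕ} {L L' : List (ℤ × ℤ)} (h : L.Perm L') :
    (members p e L).Perm (members p e L') := by
  have h1 : excT (degsOf L) = excT (degsOf L') := by
    simp only [excT, degsOf]; rw [(h.map _).sum_eq]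
  have h2 : excW L = excW L' := by simp only [excW]; rw [(h.map _).sum_eq]
  unfold members
  rw [h1, h2]
  exact (h.map _).append (List.Perm.refl _)

end Cfsg.Agent.H86.MTwentyTwo.FiveSeven
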