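import Cfsg.Agent.H86.MTwentyTwo.FiveSeven.Arith
import Cfsg.Agent.H86.MTwentyTwo.FiveSeven.CheckDegs
import Cfsg.Agent.H86.MTwentyTwo.FiveSeven.CheckSide
import Cfsg.Agent.H86.MTwentyTwo.FiveSeven.CheckBoth
import Cfsg.Agent.H86.MTwentyTwo.FiveSeven.CheckFive
import Cfsg.Agent.H86.MTwentyTwo.FiveSeven.CheckSeven

/-!
In a simple group of order 443520 the Sylow 5- and 7-subgroups are self-centralising, with automizers
of order 4 and 3.
-/

set_option linter.unusedSectionVars false
set_option linter.style.haveILetI false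

open scoped ComplexConjugate Classical

namespace Cfsg.Agent.H86.MTwentyTwo.FiveSeven

open CharBasic Subgroup BlockBasic Table

universe u

variable {G : Type u} [Group G] [Fintype G] [IsSimpleGroup G]

/-- All degrees have the residues of the principal block of 11. -/
theorem res11_all (hG : IsM22 G) (χ : IrrCharacter G) : res11 (charDegree (χ : G → ℂ)) = true := by
  haveI : Fact (Nat.Prime 11) := ⟨by norm_num⟩
  obtain ⟨z, hz⟩ := exists_prime_orderOf_dvd_card' (G := G) 11 (by rw [hG.2]; norm_num)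
  obtain ⟨D, -⟩ := ThirtyFive.exists_block (p := 11) (by norm_num) (by norm_num)
    (show Nat.card G = 443520 from hG.2) hz
  obtain ⟨hC, he⟩ := eleven hG D.P
  exact ThirtyFive.res11_degree D hC he χ

variable {p : ℕ} [hp : Fact p.Prime] {D : SmallExc.PBlk G p} {C : Col G} {L : List (ℤ × ℤ)}

theorem degree_dvd_N (hG : IsM22 G) (χ : IrrCharacter G) : charDegree (χ : G → ℂ) ∣ N := by
  have h := H83.charDegree_dvd_card χ.2
  rw [hG.2] at h
  exact h

section Primed

variable {e : ℕ} (he : D.e = e)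
include he

theorem Row.member' (hL : Row D C L) (h2 : p ≠ 2) (hC : Cent D = (D.P : Subgroup G))
    {χ : IrrCharacter G} (hne : χ ≠ trivialIrr) (hd : ¬ p ∣ charDegree (χ : G → ℂ)) :
    C.pr χ ∈ members p e L := by
  subst he; exact hL.member_of_coprime h2 hC hne hd

theorem Row.cross' (hL : Row D C L) (h2 : p ≠ 2) (hC : Cent D = (D.P : Subgroup G))
    {A : List (ℕ × ℤ)} (hA : ∀ a ∈ A, ∃ χ : IrrCharacter G, χ ≠ trivialIrr ∧ C.pr χ = a) :
    cross p A (members p e L) = true := by
  subst he; exact hL.cross_of h2 hC hA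

theorem Row.isPr' (hL : Row D C L) (h2 : p ≠ 2) {a : ℕ × ℤ} (ha : a ∈ members p e L) :
    ∃ χ : IrrCharacter G, χ ≠ trivialIrr ∧ C.pr χ = a := by
  subst he; exact hL.isPr h2 ha

end Primed

theorem Row.degs_perm (hL : Row D C L) : (degsOf L).Perm (signedX D) := by
  have h := hL.map Prod.fst
  rw [List.map_map] at h
  exact h

/-- A row realising a tabulated list of degrees. -/
theorem exists_row_table (hG : IsM22 G) (D : SmallExc.PBlk G p) (C : Col G) {e M : ℕ} {sm : Bool}
    {cand : List ℤ} {tbl : List (List ℤ)} (he : D.e = e)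
    (hM : ∀ χ ∈ D.X, charDegree (χ : G → ℂ) ∣ M)
    (hsm : sm = true → ∀ F ∈ signedX D, ¬ H36.BlockDegree.Small p F)
    (hc : candCheck p M sm cand = true) {P : List ℤ → Bool}
    (htbl : ((combos cand (e - 1)).all fun Ds => !(P Ds) || tbl.contains Ds) = true)
    (hP : ∀ L, Row D C L → P (degsOf L) = true) :
    ∃ L, Row D C L ∧ degsOf L ∈ tbl := by
  have hna := not_comm_of_isM22 hG
  have hmem : ∀ F ∈ signedX D, F ∈ cand := by
    intro F hF
    obtain ⟨χ, hχ, hne, rfl⟩ := mem_signedX D hF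
    have hnat := natAbs_sign_mul (D.sign χ hχ) (charDegree (χ : G → ℂ))
    have hlt : charDegree (χ : G → ℂ) < 666 := by
      have h := sum_deg_sq_le ({χ} : Finset (IrrCharacter G))
      rw [Finset.sum_singleton, hG.2] at h
      by_contra hge
      have h1 : (666 : ℤ) ^ 2 ≤ (charDegree (χ : G → ℂ) : ℤ) ^ 2 :=
        pow_le_pow_left₀ (by norm_num) (by omega) 2
      omega
    have h := List.all_eq_true.1 hc _ (List.mem_range.2 hlt)
    rw [List.all_eq_true] at h
    have h1 := h (D.εX χ * (charDegree (χ : G → ℂ) : ℤ))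
      (by rcases D.sign χ hχ with e | e <;> simp [e])
    have hok : candOK p M sm (D.εX χ * (charDegree (χ : G → ℂ) : ℤ)) = true := by
      simp only [candOK, hnat, Bool.and_eq_true, decide_eq_true_eq, beq_iff_eq, res11_all hG χ, and_true]
      refine ⟨⟨⟨⟨two_le_degree hna hne, Nat.mod_eq_zero_of_dvd ?_⟩, Nat.mod_eq_zero_of_dvd (hM χ hχ)⟩,
        Int.emod_eq_zero_of_dvd (X_degree_mod D hχ)⟩, ?_⟩
      · have h' := H83.charDegree_dvd_card χ.2
        rw [hG.2] at h'
        exact h'
      · cases sm with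
        | false => rfl
        | true =>
          have hs := hsm rfl _ hF
          unfold H36.BlockDegree.Small at hs
          have : ¬ (small p (D.εX χ * (charDegree (χ : G → ℂ) : ℤ)) = true) := by
            simp only [small, Bool.or_eq_true, beq_iff_eq]
            omega
          simpa using this
    rw [hok, Bool.not_true, Bool.false_or] at h1
    exact List.contains_iff_mem.1 h1
  obtain ⟨Ds, hDs, hperm⟩ := mem_combos cand (signedX D) hmem
  have hlen := length_signedX D
  rw [show (signedX D).length = e - 1 by omega] at hDs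
  obtain ⟨L, hL, hdeg⟩ := exists_perm_map_eq Prod.fst Ds ((D.X.erase trivialIrr).toList.map (sig D C))
    (by rw [List.map_map]; exact hperm.symm)
  have hP' := hP L hL
  rw [degsOf, hdeg] at hP'
  have h := List.all_eq_true.1 htbl Ds hDs
  rw [hP', Bool.not_true, Bool.false_or] at h
  exact ⟨L, hL, by rw [degsOf, hdeg]; exact List.contains_iff_mem.1 h⟩

theorem Row.excDeg_of (hG : IsM22 G) (hL : Row D C L) (h2 : p ≠ 2) :
    excDeg p D.e (degsOf L) = true := by
  obtain ⟨θ, hθ⟩ := D.Y_nonempty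
  have hq := hL.deg_sq_le h2
  rw [hG.2, hL.excT_eq hθ] at hq
  simp only [excDeg, hL.excT_eq hθ, natAbs_sign_mul D.hε, Bool.and_eq_true, decide_eq_true_eq,
    beq_iff_eq, res11_all hG θ, and_true]
  refine ⟨⟨⟨two_le_degree (not_comm_of_isM22 hG) (Y_ne_triv D hθ), Nat.mod_eq_zero_of_dvd ?_⟩,
    Int.emod_eq_zero_of_dvd (Y_degree_mod D hθ)⟩, hq⟩
  have h := H83.charDegree_dvd_card θ.2
  rw [hG.2] at h
  exact h

theorem eg_eq (hG : IsM22 G) (D : SmallExc.PBlk G p) : N / (p * coSize D) = D.e * D.g := by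
  refine Nat.div_eq_of_eq_mul_left ?_ ?_
  · refine Nat.pos_of_ne_zero fun h => ?_
    have h1 := card_cent D
    rw [h] at h1
    exact Nat.card_pos.ne' h1
  · exact hG.2.symm.trans (e_mul_g_mul D).symm

theorem Row.idxOK_of (hG : IsM22 G) (hL : Row D C L) :
    idxOK p D.e (degsOf L) (coSize D) = true := by
  obtain ⟨θ, hθ⟩ := D.Y_nonempty
  simp only [idxOK, eg_eq hG D, hL.excT_eq hθ, natAbs_sign_mul D.hε, Bool.and_eq_true, beq_iff_eq,
    List.all_eq_true]
  refine ⟨fun F hF => ?_, Nat.mod_eq_zero_of_dvd ?_⟩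
  · obtain ⟨χ, hχ, -, rfl⟩ := mem_signedX D (hL.degs_perm.mem_iff.1 hF)
    rw [natAbs_sign_mul (D.sign χ hχ)]
    exact Nat.mod_eq_zero_of_dvd (D.deg_dvd_X hχ)
  · rw [← mul_assoc]
    exact D.deg_dvd_Y hθ

/-- The block at an involution centralising the Sylow subgroup is tabulated. -/
theorem exists_side_row (hG : IsM22 G) (D : SmallExc.PBlk G p) (C : Col G) (h2 : p ≠ 2)
    (hzC : C.z ∈ Cent D) (hev : 2 ∣ coSize D) (hl : coSize D ∈ coList p D.e)
    (hspec : ¬ (p = 7 ∧ coSize D = 4 ∧ C.c = 896)) {e M : ℕ} (he : D.e = e) (hMp : N = 2 * p * M)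
    {k : ℕ} (hk : C.c = 2 * p * k) (hkmem : k ∈ cofactors p)
    {cand : List ℤ} {dg : List (List ℤ)} {rows : List (ℕ × List (ℤ × ℤ))}
    (hc : candCheck p M true cand = true) (hd : sideDegCheck p e cand dg = true)
    (hr : sideCheck p e dg rows = true) :
    ∃ L, Row D C L ∧ (C.c, L) ∈ rows := by
  have hna := not_comm_of_isM22 hG
  obtain ⟨hsX, hsY⟩ := not_small_signed D hna Nat.prime_two h2 hzC C.two
  have hM : ∀ χ ∈ D.X, charDegree (χ : G → ℂ) ∣ M := fun χ hχ => by
    refine (D.deg_dvd_X hχ).trans ?_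
    obtain ⟨l, hlv⟩ := hev
    refine ⟨l, Nat.eq_of_mul_eq_mul_left (show 0 < 2 * p by have := hp.out.pos; omega) ?_⟩
    have hGN : Nat.card G = N := hG.2
    rw [← hMp, ← hGN, ← e_mul_g_mul D, hlv]
    ring
  obtain ⟨L, hL, hmem⟩ := exists_row_table hG D C he hM (fun _ => hsX) hc hd fun L hL => by
    obtain ⟨θ, hθ⟩ := D.Y_nonempty
    rw [← he]
    simp only [sideDeg, hL.excDeg_of hG h2, Bool.true_and, Bool.and_eq_true, List.any_eq_true]
    refine ⟨?_, coSize D, hl, hL.idxOK_of hG⟩
    have hs := hsY θ hθ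
    rw [show D.t = (p - 1) / D.e from rfl] at hs
    unfold H36.BlockDegree.Small at hs
    rw [hL.excT_eq hθ]
    have : ¬ (small p (-(((p - 1) / D.e : ℕ) : ℤ) * (D.ε * (charDegree (θ : G → ℂ) : ℤ))) = true) := by
      simp only [small, Bool.or_eq_true, beq_iff_eq]
      omega
    simpa using this
  refine ⟨L, hL, ?_⟩
  have h := List.all_eq_true.1 hr k hkmem
  simp only [← hk, C.div_c hG.2, List.all_eq_true] at h
  have hlf := vals_sound L 1 _ (h _ hmem) (fun o ho => hL.mem_sideVals hG.2 h2 hzC ho) (by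
    have := hL.val_sq_le h2
    have h0 : (0 : ℤ) ≤ (((p - 1) / D.e : ℕ) : ℤ) * (excW L * excW L) :=
      mul_nonneg (Int.natCast_nonneg _) (mul_self_nonneg _)
    linarith)
  have hok : sideOK p e C.c C.h L = true := by
    obtain ⟨θ, hθ⟩ := D.Y_nonempty
    obtain ⟨m, hm, hodd, hsq⟩ := hL.square h2 hG.2
    rw [← he]
    simp only [sideOK, hL.excVal_of h2 hθ, Bool.true_and, Bool.and_eq_true, beq_iff_eq,
      List.any_eq_true]
    refine ⟨?_, coSize D, hl, ⟨?_, hL.idxOK_of hG⟩, ?_⟩
    · obtain ⟨j, hj⟩ := Int.modEq_iff_dvd.1 (val_Y_modEq D hθ hzC (C.reg h2) (C.hv θ)).symm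
      have hεsq : D.ε * D.ε = 1 := by rcases D.hε with e | e <;> simp [e]
      rw [hL.excW_eq h2 hθ]
      exact Int.emod_eq_zero_of_dvd ⟨D.ε * j, by linear_combination D.ε * hj + (D.e : ℤ) * hεsq⟩
    · simp only [Bool.not_eq_true', Bool.and_eq_false_iff, beq_eq_false_iff_ne]
      by_cases h7 : p = 7
      · by_cases h4 : coSize D = 4
        · exact Or.inr fun hc => hspec ⟨h7, h4, hc⟩
        · exact Or.inl (Or.inr h4)
      · exact Or.inl (Or.inl h7)
    · unfold sideSq
      split_ifs with hpar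
      · rw [beq_iff_eq] at hpar
        have h0 := hodd (Nat.odd_iff.2 hpar)
        rw [h0, mul_zero, Nat.cast_zero, zero_mul, zero_mul] at hsq
        simp only [beq_iff_eq]
        refine (mul_eq_zero.1 hsq).resolve_left ?_
        have h1 : 0 < coSize D := Nat.pos_of_ne_zero fun h1 => by
          have h3 := card_cent D
          rw [h1, mul_zero] at h3
          exact Nat.card_pos.ne' h3
        have h3 : 0 < C.h := Nat.pos_of_ne_zero fun h3 => by
          have := C.c_mul_h hG.2
          rw [h3, mul_zero] at this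
          exact absurd this (by norm_num [N])
        have := hp.out.pos
        positivity
      · exact List.any_eq_true.2 ⟨m, List.mem_range.2 (by omega), beq_iff_eq.2 hsq⟩
  rw [hok, Bool.not_true, Bool.false_or] at hlf
  exact List.contains_iff_mem.1 hlf

/-- The block of a self-centralising Sylow subgroup at an involution centralising a Sylow `q`-subgroup. -/
theorem Row.selfOK_of (hG : IsM22 G) (hL : Row D C L) (h2 : p ≠ 2) (hl : coSize D = 1)
    {q : ℕ} [hq : Fact q.Prime] (D' : SmallExc.PBlk G q) (hq2 : q ≠ 2) (hzC : C.z ∈ Cent D') :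
    selfOK p D.e q C.c C.h L = true := by
  obtain ⟨θ, hθ⟩ := D.Y_nonempty
  obtain ⟨m, hm, hodd, hsq⟩ := hL.square h2 hG.2
  rw [hl] at hm hsq
  simp only [selfOK, hL.excVal_of h2 hθ, Bool.true_and, Bool.and_eq_true, Bool.or_eq_true,
    Bool.not_eq_true', beq_eq_false_iff_ne, beq_iff_eq, hL.excT_eq hθ, hL.excW_eq h2 hθ,
    natAbs_sign_mul D.hε]
  refine ⟨?_, ?_⟩
  · by_cases hd : q ∣ charDegree (θ : G → ℂ)
    · right
      have h := val_defect_modEq D' hd hzC (C.reg hq2) (C.hv θ)
      exact Int.emod_eq_zero_of_dvd ((Int.modEq_zero_iff_dvd.1 h).mul_left _)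
    · left; exact fun h => hd (Nat.dvd_of_mod_eq_zero h)
  · interval_cases m
    · left
      rw [mul_zero, Nat.cast_zero, zero_mul, zero_mul] at hsq
      refine (mul_eq_zero.1 hsq).resolve_left ?_
      have h3 : 0 < C.h := Nat.pos_of_ne_zero fun h3 => by
        have := C.c_mul_h hG.2
        rw [h3, mul_zero] at this
        exact absurd this (by norm_num [N])
      have := hp.out.pos
      positivity
    · right
      refine ⟨?_, ?_⟩
      · rcases Nat.even_or_odd D.e with h | h
        · exact Nat.even_iff.1 h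
        · exact absurd (hodd h) one_ne_zero
      · rw [mul_one, Nat.cast_one, mul_one] at hsq
        exact hsq

theorem Row.selfOK' (hG : IsM22 G) {e : ℕ} (he : D.e = e) (hL : Row D C L) (h2 : p ≠ 2)
    (hl : coSize D = 1) {q : ℕ} [hq : Fact q.Prime] (D' : SmallExc.PBlk G q) (hq2 : q ≠ 2)
    (hzC : C.z ∈ Cent D') : selfOK p e q C.c C.h L = true := by
  subst he; exact hL.selfOK_of hG h2 hl D' hq2 hzC

theorem Row.leaf_of_vals (hL : Row D C L) (h2 : p ≠ 2) {opt : ℤ → List ℤ}
    {leaf : List (ℤ × ℤ) → Bool} (h : vals C.c opt (degsOf L) 1 leaf = true)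
    (hopt : ∀ o ∈ L, o.2 ∈ opt o.1) : leaf L = true :=
  vals_sound L 1 leaf h hopt (by
    have := hL.val_sq_le h2
    have h0 : (0 : ℤ) ≤ (((p - 1) / D.e : ℕ) : ℤ) * (excW L * excW L) :=
      mul_nonneg (Int.natCast_nonneg _) (mul_self_nonneg _)
    linarith)

theorem smooth_mem {r : ℕ} (hr : r.Prime) (k : ℕ) (h : k ∣ 2 ^ 6 * 3 ^ 2 * r ^ 1 * 11 ^ 1) :
    k ∈ smooth r 6 := by
  obtain ⟨k1, l, hk1, hl, rfl⟩ := Nat.dvd_mul.1 h
  obtain ⟨k2, j, hk2, hj, rfl⟩ := Nat.dvd_mul.1 hk1
  obtain ⟨i1, i2, hi1, hi2, rfl⟩ := Nat.dvd_mul.1 hk2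
  obtain ⟨a, ha, rfl⟩ := (Nat.dvd_prime_pow Nat.prime_two).1 hi1
  obtain ⟨b, hb, rfl⟩ := (Nat.dvd_prime_pow Nat.prime_three).1 hi2
  obtain ⟨c, hc, rfl⟩ := (Nat.dvd_prime_pow hr).1 hj
  obtain ⟨d, hd, rfl⟩ := (Nat.dvd_prime_pow (by norm_num : Nat.Prime 11)).1 hl
  simp only [smooth, List.mem_flatMap, List.mem_map, List.mem_range]
  exact ⟨a, by omega, b, by omega, c, by omega, d, by omega, rfl⟩

/-- The centraliser order of an involution centralising a Sylow subgroup. -/
theorem exists_cofactor (hG : IsM22 G) (D : SmallExc.PBlk G p) (C : Col G) (h2 : p ≠ 2)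
    (hzC : C.z ∈ Cent D) {M : ℕ} (hMp : N = 2 * p * M) :
    ∃ k, C.c = 2 * p * k ∧ k ∣ M ∧ k < M := by
  obtain ⟨x, hx, hx1⟩ := D.exists_ne_one
  have hpc : p ∣ C.c := by
    rw [← orderOf_mem D hx hx1]
    exact orderOf_dvd_natCard _ (mem_centralizer_singleton_iff.2 (commute_mem D hx hzC).eq)
  have h2c : 2 ∣ C.c := by
    rw [← C.two]
    exact orderOf_dvd_natCard _ (mem_centralizer_singleton_iff.2 rfl)
  obtain ⟨k, hk⟩ := ((Nat.coprime_primes Nat.prime_two hp.out).2 (Ne.symm h2)).mul_dvd_of_dvd_of_dvd h2c hpc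
  have hch := C.c_mul_h (G := G) hG.2
  rw [hk, hMp, mul_assoc] at hch
  have hkM : k * C.h = M :=
    Nat.eq_of_mul_eq_mul_left (show 0 < 2 * p by have := hp.out.pos; omega) hch
  refine ⟨k, hk, ⟨C.h, hkM.symm⟩, ?_⟩
  have hM0 : 0 < M := by
    rcases Nat.eq_zero_or_pos M with h | h
    · rw [h, mul_zero] at hMp; exact absurd hMp (by norm_num [N])
    · exact h
  refine lt_of_le_of_ne (Nat.le_of_dvd hM0 ⟨C.h, hkM.symm⟩) fun hkeq => ?_
  have hcN : C.c = N := by rw [hk, hkeq, hMp]
  have htop : centralizer ({C.z} : Set G) = ⊤ :=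
    eq_top_of_card_eq _ (hcN.trans (hG.2 : Nat.card G = N).symm)
  have hzc : C.z ∈ center G := mem_center_iff.2 fun g => by
    have hg : g ∈ centralizer ({C.z} : Set G) := htop ▸ mem_top g
    exact mem_centralizer_singleton_iff.1 hg
  rw [H36.center_eq_bot_of_simple (not_comm_of_isM22 hG), mem_bot] at hzc
  have h := C.two
  rw [hzc, orderOf_one] at h
  norm_num at h

/-- The block of 5 at an involution centralising a Sylow 5-subgroup. -/
theorem five_row (hG : IsM22 G) [Fact (Nat.Prime 5)] (D : SmallExc.PBlk G 5) (C : Col G)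
    (hzC : C.z ∈ Cent D) (hev : 2 ∣ coSize D) (hl : coSize D ∈ coList 5 D.e) :
    ∃ L, Row D C L ∧ (C.c, D.e, L) ∈ rows5 := by
  have h2e := two_le_e D (not_comm_of_isM22 hG)
  obtain ⟨k, hk, hkd, hklt⟩ := exists_cofactor hG D C (by norm_num) hzC (M := 44352) (by norm_num [N])
  have hkm : k ∈ cofactors 5 := by
    simp only [cofactors, List.mem_filter, decide_eq_true_eq]
    exact ⟨smooth_mem (by norm_num) k (by norm_num; exact hkd), hklt⟩
  have hspec : ¬ ((5 : ℕ) = 7 ∧ coSize D = 4 ∧ C.c = 896) := fun h => absurd h.1 (by norm_num)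
  have hcases : D.e = 2 ∨ D.e = 4 := by
    have hd : D.e ∣ 4 := D.e_dvd
    have := D.e_le
    interval_cases h : D.e <;> first | tauto | (exfalso; omega)
  rcases hcases with he | he
  · obtain ⟨L, hL, hm⟩ := exists_side_row hG D C (by norm_num) hzC hev hl hspec he (M := 44352)
      (by norm_num [N]) hk hkm cand5Side_complete degs5E2_complete rows5E2_complete
    refine ⟨L, hL, List.mem_append.2 (Or.inl (List.mem_map.2 ⟨(C.c, L), hm, by rw [he]⟩))⟩
  · obtain ⟨L, hL, hm⟩ := exists_side_row hG D C (by norm_num) hzC hev hl hspec he (M := 44352)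
      (by norm_num [N]) hk hkm cand5Side_complete degs5E4_complete rows5E4_complete
    refine ⟨L, hL, List.mem_append.2 (Or.inr (List.mem_map.2 ⟨(C.c, L), hm, by rw [he]⟩))⟩

/-- The block of 7 at an involution centralising a Sylow 7-subgroup. -/
theorem seven_row (hG : IsM22 G) [Fact (Nat.Prime 7)] (D : SmallExc.PBlk G 7) (C : Col G)
    (hzC : C.z ∈ Cent D) (hev : 2 ∣ coSize D) (hl : coSize D ∈ coList 7 D.e) :
    ∃ L, Row D C L ∧
      ((D.e = 3 ∧ (C.c, L) ∈ rows7E3) ∨ (D.e = 6 ∧ (C.c, L) ∈ rows7E6)) := by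
  have h2e := two_le_e D (not_comm_of_isM22 hG)
  obtain ⟨k, hk, hkd, hklt⟩ := exists_cofactor hG D C (by norm_num) hzC (M := 31680) (by norm_num [N])
  have hkm : k ∈ cofactors 7 := by
    simp only [cofactors, List.mem_filter, decide_eq_true_eq]
    exact ⟨smooth_mem (by norm_num) k (by norm_num; exact hkd), hklt⟩
  have hspec : ¬ ((7 : ℕ) = 7 ∧ coSize D = 4 ∧ C.c = 896) := fun h =>
    no_896 hG.2 D h.2.1 hzC C.two h.2.2
  have hcases : D.e = 2 ∨ D.e = 3 ∨ D.e = 6 := by
    have hd : D.e ∣ 6 := D.e_dvd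
    have := D.e_le
    interval_cases h : D.e <;> first | tauto | (exfalso; omega)
  rcases hcases with he | he | he
  · exfalso
    obtain ⟨L, -, hm⟩ := exists_side_row hG D C (by norm_num) hzC hev hl hspec he (M := 31680)
      (by norm_num [N]) hk hkm cand7Side_complete degs7E2_complete (rows := [])
      (by decide +kernel)
    exact List.not_mem_nil hm
  · obtain ⟨L, hL, hm⟩ := exists_side_row hG D C (by norm_num) hzC hev hl hspec he (M := 31680)
      (by norm_num [N]) hk hkm cand7Side_complete degs7E3_complete rows7E3_complete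
    exact ⟨L, hL, Or.inl ⟨he, hm⟩⟩
  · obtain ⟨L, hL, hm⟩ := exists_side_row hG D C (by norm_num) hzC hev hl hspec he (M := 31680)
      (by norm_num [N]) hk hkm cand7Side_complete degs7E6_complete rows7E6_complete
    exact ⟨L, hL, Or.inr ⟨he, hm⟩⟩

theorem mem_rows7 [Fact (Nat.Prime 7)] {D : SmallExc.PBlk G 7} {c : ℕ} {L : List (ℤ × ℤ)}
    (h : (D.e = 3 ∧ (c, L) ∈ rows7E3) ∨ (D.e = 6 ∧ (c, L) ∈ rows7E6)) : (c, D.e, L) ∈ rows7 := by
  rcases h with ⟨he, hm⟩ | ⟨he, hm⟩
  · exact List.mem_append.2 (Or.inl (List.mem_map.2 ⟨(c, L), hm, by rw [he]⟩))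
  · exact List.mem_append.2 (Or.inr (List.mem_map.2 ⟨(c, L), hm, by rw [he]⟩))

/-- The block of 11 at any involution. -/
theorem eleven_row (hG : IsM22 G) [Fact (Nat.Prime 11)] (E : SmallExc.PBlk G 11) (C : Col G)
    (he : E.e = 5) : ∃ L, Row E C L ∧ degsOf L ∈ degs11 :=
  exists_row_table hG E C he (M := N) (fun χ _ => degree_dvd_N hG χ)
    (fun h => absurd h (by simp)) cand11_complete degs11_complete
    fun _ hL => he ▸ hL.excDeg_of hG (by norm_num)

theorem freeVals_mem {r : ℕ} [Fact r.Prime] {E : SmallExc.PBlk G r} {M : List (ℤ × ℤ)} (hG : IsM22 G)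
    (hM : Row E C M) (h2 : p ≠ 2) (hzC : C.z ∈ Cent D) {o : ℤ × ℤ} (ho : o ∈ M) :
    o.2 ∈ freeVals p C.c C.h o.1 :=
  hM.mem_freeVals hG.2 D h2 hzC ho

/-- A forced member and a required degree from a tabulated block. -/
theorem forced_of_row (hL : Row D C L) (h2 : p ≠ 2) {rows : List (ℕ × ℕ × List (ℤ × ℤ))}
    (hrow : (C.c, D.e, L) ∈ rows) {req : List ℕ} {forced : List (ℕ × (ℕ × ℤ))}
    (hchk : forcedCheck p rows req forced = true) :
    (∃ χ ∈ blockChars D, charDegree (χ : G → ℂ) ∈ req) ∧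
      ∃ χ ∈ blockChars D, ¬ 11 ∣ charDegree (χ : G → ℂ) ∧ (C.c, C.pr χ) ∈ forced := by
  have h := List.all_eq_true.1 hchk _ hrow
  simp only [Bool.and_eq_true, List.any_eq_true] at h
  obtain ⟨⟨a, ha, har⟩, hmatch⟩ := h
  refine ⟨?_, ?_⟩
  · obtain ⟨χ, hχ, rfl⟩ := (hL.mem_members h2).1 ha
    exact ⟨χ, hχ, List.contains_iff_mem.1 har⟩
  · cases hf : (members p D.e L).find? (fun a => !(a.1 % 11 == 0)) with
    | none => rw [hf] at hmatch; exact absurd hmatch (by simp)
    | some b =>
      rw [hf] at hmatch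
      have hb := List.find?_some hf
      obtain ⟨χ, hχ, rfl⟩ := (hL.mem_members h2).1 (List.mem_of_find?_eq_some hf)
      refine ⟨χ, hχ, fun hd => ?_, List.contains_iff_mem.1 hmatch⟩
      simp only [Bool.not_eq_true', beq_eq_false_iff_ne] at hb
      exact hb (Nat.mod_eq_zero_of_dvd hd)

/-- The key of the block of 11, given an involution centralising at `p` and a required degree. -/
theorem key_mem (hG : IsM22 G) [Fact (Nat.Prime 11)] (E : SmallExc.PBlk G 11)
    (hEC : Cent E = (E.P : Subgroup G)) (hE1 : coSize E = 1) (he : E.e = 5)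
    (D : SmallExc.PBlk G p) (C : Col G) (h2 : p ≠ 2) (hzC : C.z ∈ Cent D)
    {forced : List (ℕ × (ℕ × ℤ))} {keys : List (ℤ × ℤ)} (hkc : keyCheck p forced keys = true)
    {χ₀ : IrrCharacter G} (hne₀ : χ₀ ≠ trivialIrr) (h11₀ : ¬ 11 ∣ charDegree (χ₀ : G → ℂ))
    (hf : (C.c, C.pr χ₀) ∈ forced)
    {χ₁ : IrrCharacter G} (hne₁ : χ₁ ≠ trivialIrr) (h11₁ : ¬ 11 ∣ charDegree (χ₁ : G → ℂ))
    (hreq : charDegree (χ₁ : G → ℂ) ∈ required p) :
    (1 + (signedX E).sum, ((signedX E).map fun F => F * F).sum) ∈ keys := by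
  obtain ⟨M, hM, hmem⟩ := eleven_row hG E C he
  have h := List.all_eq_true.1 hkc _ hf
  simp only [C.div_c hG.2, List.all_eq_true] at h
  have h1 := h _ hmem
  have hpre : ((memD 11 5 (degsOf M)).contains (C.pr χ₀).1 &&
      (required p).any fun d => (memD 11 5 (degsOf M)).contains d) = true := by
    rw [Bool.and_eq_true, List.any_eq_true, List.contains_iff_mem, ← he]
    exact ⟨hM.mem_memD (by norm_num) (mem_blockChars hEC hne₀ h11₀), _, hreq,
      List.contains_iff_mem.2 (hM.mem_memD (by norm_num) (mem_blockChars hEC hne₁ h11₁))⟩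
  rw [hpre, Bool.not_true, Bool.false_or] at h1
  have hreqm : ∀ a ∈ [C.pr χ₀], a ∈ members 11 5 M := fun a ha => by
    rw [List.mem_singleton.1 ha]
    exact hM.member' he (by norm_num) hEC hne₀ h11₀
  have hleaf := hM.leaf_of_vals (by norm_num) h1 fun o ho =>
    mem_pin hreqm ho (freeVals_mem hG hM h2 hzC ho)
  have hok : (selfOK 11 5 p C.c C.h M && (members 11 5 M).contains (C.pr χ₀)) = true := by
    rw [Bool.and_eq_true, List.contains_iff_mem]
    exact ⟨hM.selfOK' hG he (by norm_num) hE1 D h2 hzC, hreqm _ List.mem_cons_self⟩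
  rw [hok, Bool.not_true, Bool.false_or] at hleaf
  have hk := List.contains_iff_mem.1 hleaf
  rw [excT, hM.degs_perm.sum_eq, (hM.degs_perm.map _).sum_eq] at hk
  exact hk

theorem sum_ite_blockChars (hL : Row D C L) (h2 : p ≠ 2) (P : ℕ → Bool) (f : ℕ × ℤ → ℤ) :
    (((members p D.e L).filter fun a => P a.1).map f).sum =
      ∑ χ : IrrCharacter G,
        if χ ∈ blockChars D ∧ P (charDegree (χ : G → ℂ)) = true then f (C.pr χ) else 0 := by
  rw [sum_filter_map, hL.sum_members h2, ← Finset.sum_filter, ← Finset.sum_filter]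
  refine Finset.sum_congr ?_ fun _ _ => rfl
  ext χ
  simp only [Finset.mem_filter, Finset.mem_univ, true_and, Col.pr]
  exact Finset.mem_filter

/-- The three blocks have disjoint parts. -/
theorem union_le [Fact (Nat.Prime 11)] [Fact (Nat.Prime 5)] [Fact (Nat.Prime 7)]
    {E : SmallExc.PBlk G 11} {F5 : SmallExc.PBlk G 5} {F7 : SmallExc.PBlk G 7} {M A B : List (ℤ × ℤ)}
    (hM : Row E C M) (hA : Row F5 C A) (hB : Row F7 C B) {e11 e5 e7 : ℕ} (h11 : E.e = e11)
    (h5 : F5.e = e5) (h7 : F7.e = e7) (f : ℕ × ℤ → ℤ) (hf : ∀ a, 0 ≤ f a) :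
    ((((members 11 e11 M) ++ (members 5 e5 A).filter fun a => a.1 % 11 == 0) ++
      (members 7 e7 B).filter fun a => a.1 % 55 == 0).map f).sum ≤
      ∑ χ ∈ (Finset.univ : Finset (IrrCharacter G)).erase trivialIrr, f (C.pr χ) := by
  subst h11 h5 h7
  have hall : (members 11 E.e M).filter (fun a => (fun _ => true) a.1) = members 11 E.e M :=
    List.filter_eq_self.2 fun _ _ => rfl
  rw [List.map_append, List.map_append, List.sum_append, List.sum_append, ← hall,
    sum_ite_blockChars hM (by norm_num) (fun _ => true) f,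
    sum_ite_blockChars hA (by norm_num) (fun d => d % 11 == 0) f,
    sum_ite_blockChars hB (by norm_num) (fun d => d % 55 == 0) f,
    ← Finset.sum_add_distrib, ← Finset.sum_add_distrib, ← Finset.add_sum_erase _ _ (Finset.mem_univ trivialIrr)]
  simp only [not_mem_triv, false_and, if_false, zero_add, add_zero]
  refine Finset.sum_le_sum fun χ _ => ?_
  simp only [beq_iff_eq, and_true]
  have := hf (C.pr χ)
  by_cases ha : χ ∈ blockChars E
  · have h11 := not_dvd_degree E ha
    rw [if_pos ha, if_neg (fun h => h11 (Nat.dvd_of_mod_eq_zero h.2)),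
      if_neg (fun h => h11 ((show 11 ∣ 55 by norm_num).trans (Nat.dvd_of_mod_eq_zero h.2)))]
    linarith
  · rw [if_neg ha]
    by_cases hb : χ ∈ blockChars F5 ∧ charDegree (χ : G → ℂ) % 11 = 0
    · rw [if_pos hb, if_neg (fun h => not_dvd_degree F5 hb.1
        ((show 5 ∣ 55 by norm_num).trans (Nat.dvd_of_mod_eq_zero h.2)))]
      linarith
    · rw [if_neg hb]
      split_ifs <;> linarith

theorem sum_erase_deg_sq (hG : IsM22 G) :
    1 + ∑ χ ∈ (Finset.univ : Finset (IrrCharacter G)).erase trivialIrr,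
      (charDegree (χ : G → ℂ) : ℤ) * (charDegree (χ : G → ℂ) : ℤ) ≤ (N : ℤ) := by
  have h := sum_deg_sq_le (Finset.univ : Finset (IrrCharacter G))
  rw [← Finset.add_sum_erase _ _ (Finset.mem_univ trivialIrr), hG.2,
    H84.charDegree_of_eq (χ := ((trivialIrr : IrrCharacter G) : G → ℂ)) (n := 1)
      (by rw [Nat.cast_one]; rfl)] at h
  simp only [Nat.cast_one, one_pow, sq] at h
  exact h

/-- An involution centralising a Sylow 5-subgroup makes the 7-centralisers larger. -/
theorem no_five (hG : IsM22 G) [Fact (Nat.Prime 11)] [Fact (Nat.Prime 5)] [Fact (Nat.Prime 7)]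
    (E : SmallExc.PBlk G 11) (hEC : Cent E = (E.P : Subgroup G)) (hE1 : coSize E = 1) (he11 : E.e = 5)
    (D : SmallExc.PBlk G 5) (F : SmallExc.PBlk G 7) (hF1 : coSize F = 1) (heF : F.e = 3)
    (hev : 2 ∣ coSize D) (hl : coSize D ∈ coList 5 D.e) : False := by
  obtain ⟨z, hzC, hz⟩ := exists_order_cent D Nat.prime_two hev
  obtain ⟨C, rfl⟩ := exists_col (not_comm_of_isM22 hG) hz
  have hFC := cent_eq_of_coSize F hF1
  obtain ⟨L, hL, hrow⟩ := five_row hG D C hzC hev hl
  have h := List.all_eq_true.1 five_none _ hrow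
  simp only [Bool.and_eq_true, List.contains_iff_mem, C.div_c hG.2] at h
  obtain ⟨horder, h⟩ := h
  obtain ⟨B, hB, hBmem⟩ := exists_row_table hG F C heF (M := N)
    (fun χ _ => degree_dvd_N hG χ) (fun h => absurd h (by simp)) cand7_complete
    degs7_complete fun L hL => heF ▸ hL.excDeg_of hG (by norm_num)
  have h7 := List.all_eq_true.1 self7_complete _ horder
  simp only [C.div_c hG.2, List.all_eq_true] at h7
  have hB7 := hB.leaf_of_vals (by norm_num) (h7 _ hBmem) fun o ho =>
    freeVals_mem hG hB (by norm_num) hzC ho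
  rw [show selfOK 7 3 5 C.c C.h B = true from hB.selfOK' hG heF (by norm_num) hF1 D (by norm_num) hzC,
    Bool.not_true, Bool.false_or, List.contains_iff_mem] at hB7
  have h' := List.all_eq_true.1 h _ hB7
  have hisL : ∀ a ∈ members 5 D.e L, ∃ χ : IrrCharacter G, χ ≠ trivialIrr ∧ C.pr χ = a :=
    fun a => hL.isPr (by norm_num)
  have hisB : ∀ a ∈ members 7 3 B, ∃ χ : IrrCharacter G, χ ≠ trivialIrr ∧ C.pr χ = a :=
    fun a ha => hB.isPr' heF (by norm_num) ha
  have hcr : cross 7 (members 5 D.e L) (members 7 3 B) = true :=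
    hB.cross' heF (by norm_num) hFC hisL
  simp only [beq_self_eq_true, Bool.not_true, Bool.false_or, hcr, List.all_eq_true] at h'
  obtain ⟨M, hM, hMmem⟩ := eleven_row hG E C he11
  have h1 := h' _ hMmem
  set req := (members 5 D.e L ++ members 7 3 B).filter fun a => !(a.1 % 11 == 0) with hreq
  have hreqm : ∀ a ∈ req, a ∈ members 11 5 M := by
    intro a ha
    obtain ⟨ha', hd⟩ := List.mem_filter.1 ha
    simp only [Bool.not_eq_true', beq_eq_false_iff_ne] at hd
    obtain ⟨χ, hne, rfl⟩ := (List.mem_append.1 ha').elim (hisL a) (hisB a)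
    exact hM.member' he11 (by norm_num) hEC hne
      fun hdd => hd (Nat.mod_eq_zero_of_dvd hdd)
  have hisM : ∀ a ∈ members 11 5 M, ∃ χ : IrrCharacter G, χ ≠ trivialIrr ∧ C.pr χ = a :=
    fun a ha => hM.isPr' he11 (by norm_num) ha
  have hcrM : cross 7 (members 11 5 M) (members 7 3 B) = true :=
    hB.cross' heF (by norm_num) hFC hisM
  have hpre : ((req.all fun a => (memD 11 5 (degsOf M)).contains a.1) &&
      ((memD 11 5 (degsOf M)).all fun d => d % 7 == 0 || (memD 7 3 (degsOf B)).contains d)) = true := by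
    rw [Bool.and_eq_true, List.all_eq_true, List.all_eq_true]
    refine ⟨fun a ha => ?_, fun d hd => ?_⟩
    · rw [List.contains_iff_mem, memD_degsOf]
      exact List.mem_map.2 ⟨a, hreqm a ha, rfl⟩
    · rw [memD_degsOf, List.mem_map] at hd
      obtain ⟨a, ha, rfl⟩ := hd
      have h2 := List.all_eq_true.1 hcrM a ha
      rw [Bool.or_eq_true] at h2 ⊢
      rw [List.contains_iff_mem] at h2 ⊢
      refine h2.imp id fun h3 => ?_
      rw [memD_degsOf]
      exact List.mem_map.2 ⟨a, h3, rfl⟩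
  rw [hpre, Bool.not_true, Bool.false_or] at h1
  have hleaf := hM.leaf_of_vals (by norm_num) h1 fun o ho => by
    have hb := mem_pin hreqm ho (freeVals_mem hG hM (by norm_num : (5 : ℕ) ≠ 2) hzC ho)
    split_ifs with h7d
    · exact hb
    · refine List.mem_filter.2 ⟨hb, List.contains_iff_mem.2 ?_⟩
      have ha : absP (o.1, o.2) ∈ members 11 5 M :=
        List.mem_append.2 (Or.inl (List.mem_map.2 ⟨o, ho, rfl⟩))
      have h2 := List.all_eq_true.1 hcrM _ ha
      rw [Bool.or_eq_true, List.contains_iff_mem] at h2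
      exact h2.resolve_left h7d
  rw [show selfOK 11 5 5 C.c C.h M = true from hM.selfOK' hG he11 (by norm_num) hE1 D (by norm_num) hzC,
    Bool.not_true, Bool.false_or, hcrM, Bool.and_true,
    show (req.all fun a => (members 11 5 M).contains a) = true from
      List.all_eq_true.2 fun a ha => List.contains_iff_mem.2 (hreqm a ha), Bool.not_true] at hleaf
  exact Bool.false_ne_true hleaf

/-- An involution centralising a Sylow 7-subgroup makes the 5-centralisers larger. -/
theorem no_seven (hG : IsM22 G) [Fact (Nat.Prime 11)] [Fact (Nat.Prime 5)] [Fact (Nat.Prime 7)]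
    (E : SmallExc.PBlk G 11) (hEC : Cent E = (E.P : Subgroup G)) (hE1 : coSize E = 1) (he11 : E.e = 5)
    (F : SmallExc.PBlk G 5) (hF1 : coSize F = 1) (heF : F.e = 4) (D : SmallExc.PBlk G 7)
    (hev : 2 ∣ coSize D) (hl : coSize D ∈ coList 7 D.e) : False := by
  obtain ⟨z, hzC, hz⟩ := exists_order_cent D Nat.prime_two hev
  obtain ⟨C, rfl⟩ := exists_col (not_comm_of_isM22 hG) hz
  have hFC := cent_eq_of_coSize F hF1
  obtain ⟨L, hL, hrow⟩ := seven_row hG D C hzC hev hl
  have hsev : sevenCheckRow (C.c, D.e, L) = true := by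
    rcases hrow with ⟨he, hm⟩ | ⟨he, hm⟩ <;> rw [he]
    · exact List.all_eq_true.1 seven_none3 _ hm
    · rw [← List.take_append_drop 28 rows7E6, List.mem_append] at hm
      rcases hm with hm | hm
      · exact List.all_eq_true.1 seven_none6a _ hm
      · exact List.all_eq_true.1 seven_none6b _ hm
  simp only [sevenCheckRow, C.div_c hG.2, List.all_eq_true] at hsev
  obtain ⟨M, hM, hMmem⟩ := eleven_row hG E C he11
  obtain ⟨A, hA, hAmem⟩ := exists_row_table hG F C heF (M := N)
    (fun χ _ => degree_dvd_N hG χ) (fun h => absurd h (by simp)) cand5_complete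
    degs5_complete fun L hL => heF ▸ hL.excDeg_of hG (by norm_num)
  have h1 := hsev _ hMmem
  set req := (members 7 D.e L).filter fun a => !(a.1 % 11 == 0) with hreq
  have hisL : ∀ a ∈ members 7 D.e L, ∃ χ : IrrCharacter G, χ ≠ trivialIrr ∧ C.pr χ = a :=
    fun a => hL.isPr (by norm_num)
  have hisM : ∀ a ∈ members 11 5 M, ∃ χ : IrrCharacter G, χ ≠ trivialIrr ∧ C.pr χ = a :=
    fun a ha => hM.isPr' he11 (by norm_num) ha
  have hisA : ∀ a ∈ members 5 4 A, ∃ χ : IrrCharacter G, χ ≠ trivialIrr ∧ C.pr χ = a :=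
    fun a ha => hA.isPr' heF (by norm_num) ha
  have hreqm : ∀ a ∈ req, a ∈ members 11 5 M := by
    intro a ha
    obtain ⟨ha', hd⟩ := List.mem_filter.1 ha
    simp only [Bool.not_eq_true', beq_eq_false_iff_ne] at hd
    obtain ⟨χ, hne, rfl⟩ := hisL a ha'
    exact hM.member' he11 (by norm_num) hEC hne
      fun hdd => hd (Nat.mod_eq_zero_of_dvd hdd)
  have hcr5 : cross 5 (members 7 D.e L ++ members 11 5 M) (members 5 4 A) = true :=
    hA.cross' heF (by norm_num) hFC fun a ha => (List.mem_append.1 ha).elim (hisL a) (hisM a)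
  have hcr11 : cross 11 (members 5 4 A) (members 11 5 M) = true :=
    hM.cross' he11 (by norm_num) hEC hisA
  rw [show (req.all fun a => (memD 11 5 (degsOf M)).contains a.1) = true from
      List.all_eq_true.2 fun a ha => by
        rw [List.contains_iff_mem, memD_degsOf]; exact List.mem_map.2 ⟨a, hreqm a ha, rfl⟩,
    Bool.not_true, Bool.false_or] at h1
  have hcompat : degsOf A ∈ compat5 ((members 7 D.e L).map Prod.fst) (memD 11 5 (degsOf M)) := by
    refine List.mem_filter.2 ⟨hAmem, ?_⟩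
    simp only [memD_degsOf, Bool.and_eq_true, List.all_eq_true, decide_eq_true_eq]
    refine ⟨⟨fun d hd => ?_, fun d hd => ?_⟩, ?_⟩
    · rw [← List.map_append] at hd
      obtain ⟨a, ha, rfl⟩ := List.mem_map.1 hd
      have h2 := List.all_eq_true.1 hcr5 a ha
      rw [Bool.or_eq_true] at h2 ⊢
      rw [List.contains_iff_mem] at h2 ⊢
      exact h2.imp id fun h3 => List.mem_map.2 ⟨a, h3, rfl⟩
    · obtain ⟨a, ha, rfl⟩ := List.mem_map.1 hd
      have h2 := List.all_eq_true.1 hcr11 a ha
      rw [Bool.or_eq_true] at h2 ⊢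
      rw [List.contains_iff_mem] at h2 ⊢
      exact h2.imp id fun h3 => List.mem_map.2 ⟨a, h3, rfl⟩
    · have hu := union_le hM hA hL he11 heF rfl (fun a => (a.1 : ℤ) * a.1) fun a => mul_self_nonneg _
      have hb := sum_erase_deg_sq (G := G) hG
      simp only [Col.pr] at hu
      simp only [List.filter_map, ← List.map_append, List.map_map, Function.comp_def, bind_pure_comp,
        List.map_eq_map, List.pure_def, List.bind_eq_flatMap, ← List.map_eq_flatMap] at hu ⊢
      linarith
  rw [Bool.or_eq_true] at h1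
  rcases h1 with h1 | h1
  · rw [List.isEmpty_iff] at h1
    rw [h1] at hcompat
    exact List.not_mem_nil hcompat
  have hleaf := hM.leaf_of_vals (by norm_num) h1 fun o ho =>
    mem_pin hreqm ho (freeVals_mem hG hM (by norm_num : (7 : ℕ) ≠ 2) hzC ho)
  rw [show selfOK 11 5 7 C.c C.h M = true from hM.selfOK' hG he11 (by norm_num) hE1 D (by norm_num) hzC,
    Bool.not_true, Bool.false_or,
    show (req.all fun a => (members 11 5 M).contains a) = true from
      List.all_eq_true.2 fun a ha => List.contains_iff_mem.2 (hreqm a ha), Bool.not_true,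
    Bool.false_or, List.all_eq_true] at hleaf
  have h5 := hleaf _ hcompat
  set r5 := (members 7 D.e L ++ members 11 5 M).filter fun a => !(a.1 % 5 == 0) with hr5
  have hr5m : ∀ a ∈ r5, a ∈ members 5 4 A := by
    intro a ha
    obtain ⟨ha', hd⟩ := List.mem_filter.1 ha
    have h2 := List.all_eq_true.1 hcr5 a ha'
    rw [Bool.or_eq_true, List.contains_iff_mem] at h2
    exact h2.resolve_left (by simpa using hd)
  have hleaf5 := hA.leaf_of_vals (by norm_num) h5 fun o ho =>
    mem_pin hr5m ho (freeVals_mem hG hA (by norm_num : (7 : ℕ) ≠ 2) hzC ho)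
  rw [show selfOK 5 4 7 C.c C.h A = true from hA.selfOK' hG heF (by norm_num) hF1 D (by norm_num) hzC,
    Bool.not_true, Bool.false_or, hcr11, Bool.and_true,
    show cross 5 r5 (members 5 4 A) = true from List.all_eq_true.2 fun a ha => by
      rw [Bool.or_eq_true, List.contains_iff_mem]; exact Or.inr (hr5m a ha),
    Bool.not_true, Bool.false_or, decide_eq_true_eq] at hleaf5
  have hu := union_le hM hA hL he11 heF rfl (fun a => a.2 * a.2) fun a => mul_self_nonneg _
  have hb := C.sum_sq_value ((Finset.univ : Finset (IrrCharacter G)).erase trivialIrr) (by simp)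
  simp only [Col.pr] at hu
  linarith

end Cfsg.Agent.H86.MTwentyTwo.FiveSeven

namespace Cfsg.Agent.H86.MTwentyTwo

open CharBasic Subgroup BlockBasic FiveSeven Table

universe u

variable {G : Type u} [Group G]

theorem exists_block_of_card [Fintype G] [IsSimpleGroup G] {p : ℕ} [hp : Fact p.Prime] (hp1 : p ∣ 443520)
    (hp2 : ¬ p * p ∣ 443520) (hG : Nat.card G = 443520) {P : Subgroup G} (hP : Nat.card P = p) :
    ∃ D : SmallExc.PBlk G p, (D.P : Subgroup G) = P := by
  obtain ⟨⟨x, hxP⟩, hx⟩ := exists_prime_orderOf_dvd_card' (G := P) p hP.symm.dvd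
  rw [Subgroup.orderOf_mk] at hx
  obtain ⟨D, hD⟩ := ThirtyFive.exists_block hp1 hp2 hG hx
  refine ⟨D, ?_⟩
  have e1 : zpowers x = P := eq_of_le_of_card_ge (zpowers_le.2 hxP) (by rw [hP, Nat.card_zpowers, hx])
  have e2 : zpowers x = (D.P : Subgroup G) := eq_of_le_of_card_ge (zpowers_le.2 hD)
    (by rw [show Nat.card (D.P : Subgroup G) = p from D.card_P, Nat.card_zpowers, hx])
  rw [← e2, e1]

theorem card_normalizer [Fintype G] {p : ℕ} [Fact p.Prime] (D : SmallExc.PBlk G p) :
    Nat.card (normalizer ((D.P : Subgroup G) : Set G)) = D.e * (p * coSize D) := by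
  rw [← card_cent D, ← Nat.card_congr (subgroupOfEquivOfLe
    (centralizer_le_normalizer ((D.P : Subgroup G) : Set G))).toEquiv]
  exact (index_mul_card _).symm

/-- The Sylow 5- and 7-subgroups are self-centralising, with automizers of order 4 and 3. -/
theorem five_seven (hG : IsM22 G) :
    (∀ P : Subgroup G, Nat.card P = 5 →
      Nat.card (centralizer (P : Set G)) = 5 ∧ Nat.card (normalizer (P : Set G)) = 20) ∧
    (∀ P : Subgroup G, Nat.card P = 7 →
      Nat.card (centralizer (P : Set G)) = 7 ∧ Nat.card (normalizer (P : Set G)) = 21) := by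
  haveI := finite_of_isM22 hG
  haveI := hG.1
  letI := Fintype.ofFinite G
  haveI : Fact (Nat.Prime 5) := ⟨by norm_num⟩
  haveI : Fact (Nat.Prime 7) := ⟨by norm_num⟩
  haveI : Fact (Nat.Prime 11) := ⟨by norm_num⟩
  have hN : Nat.card G = 443520 := hG.2
  obtain ⟨E, -⟩ : ∃ E : SmallExc.PBlk G 11, True := by
    obtain ⟨z, hz⟩ := exists_prime_orderOf_dvd_card' (G := G) 11 (by rw [hN]; norm_num)
    obtain ⟨E, -⟩ := ThirtyFive.exists_block (p := 11) (by norm_num) (by norm_num) hN hz
    exact ⟨E, trivial⟩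
  obtain ⟨hEC, he11⟩ := eleven hG E.P
  have hE1 : coSize E = 1 := by
    have h := card_cent E
    rw [show Cent E = (E.P : Subgroup G) from hEC,
      show Nat.card (E.P : Subgroup G) = 11 from E.card_P] at h
    omega
  have key : ∀ (D5 : SmallExc.PBlk G 5) (D7 : SmallExc.PBlk G 7),
      (coSize D5 = 1 ∧ D5.e = 4) ∧ (coSize D7 = 1 ∧ D7.e = 3) := by
    intro D5 D7
    rcases co_cases hG (q := 7) (Q := 88704) (by norm_num) (by norm_num) (by norm_num) (by norm_num)
      (by norm_num) (by norm_num) coCheck5 D5 with h5 | ⟨hev5, hl5⟩ <;>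
    rcases co_cases hG (q := 5) (Q := 63360) (by norm_num) (by norm_num) (by norm_num) (by norm_num)
      (by norm_num) (by norm_num) coCheck7 D7 with h7 | ⟨hev7, hl7⟩
    · exact ⟨h5, h7⟩
    · exact absurd (no_seven hG E hEC hE1 he11 D5 h5.1 h5.2 D7 hev7 hl7) not_false
    · exact absurd (no_five hG E hEC hE1 he11 D5 D7 h7.1 h7.2 hev5 hl5) not_false
    · exfalso
      have hna := not_comm_of_isM22 hG
      obtain ⟨z5, hz5C, hz5⟩ := exists_order_cent D5 Nat.prime_two hev5
      obtain ⟨C5, rfl⟩ := exists_col hna hz5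
      obtain ⟨z7, hz7C, hz7⟩ := exists_order_cent D7 Nat.prime_two hev7
      obtain ⟨C7, rfl⟩ := exists_col hna hz7
      obtain ⟨L5, hL5, hr5⟩ := five_row hG D5 C5 hz5C hev5 hl5
      obtain ⟨L7, hL7, hr7⟩ := seven_row hG D7 C7 hz7C hev7 hl7
      obtain ⟨⟨a, ha, har⟩, χ5, hχ5, h115, hf5⟩ :=
        forced_of_row hL5 (by norm_num) hr5 forced5_complete
      obtain ⟨⟨b, hb, hbr⟩, χ7, hχ7, h117, hf7⟩ :=
        forced_of_row hL7 (by norm_num) (mem_rows7 hr7) forced7_complete
      have ha11 : ¬ 11 ∣ charDegree (a : G → ℂ) := by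
        simp only [required, List.mem_cons, List.not_mem_nil, or_false] at har
        omega
      have hb11 : ¬ 11 ∣ charDegree (b : G → ℂ) := by
        simp only [required, List.mem_cons, List.not_mem_nil, or_false] at hbr
        omega
      have k5 := key_mem hG E hEC hE1 he11 D5 C5 (by norm_num) hz5C keys5_complete
        (ne_triv_of_mem D5 hχ5) h115 hf5 (ne_triv_of_mem D7 hb) hb11 hbr
      have k7 := key_mem hG E hEC hE1 he11 D7 C7 (by norm_num) hz7C keys7_complete
        (ne_triv_of_mem D7 hχ7) h117 hf7 (ne_triv_of_mem D5 ha) ha11 har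
      have h := List.all_eq_true.1 keys_disjoint _ k5
      rw [List.contains_iff_mem.2 k7] at h
      exact Bool.false_ne_true h
  obtain ⟨x5, hx5⟩ := exists_prime_orderOf_dvd_card' (G := G) 5 (by rw [hN]; norm_num)
  obtain ⟨x7, hx7⟩ := exists_prime_orderOf_dvd_card' (G := G) 7 (by rw [hN]; norm_num)
  obtain ⟨A5, -⟩ := ThirtyFive.exists_block (p := 5) (by norm_num) (by norm_num) hN hx5
  obtain ⟨A7, -⟩ := ThirtyFive.exists_block (p := 7) (by norm_num) (by norm_num) hN hx7
  refine ⟨fun P hP => ?_, fun P hP => ?_⟩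
  · obtain ⟨D, rfl⟩ := exists_block_of_card (by norm_num) (by norm_num) hN hP
    obtain ⟨⟨h1, he⟩, -⟩ := key D A7
    exact ⟨by rw [card_cent D, h1], by rw [card_normalizer D, h1, he]⟩
  · obtain ⟨D, rfl⟩ := exists_block_of_card (by norm_num) (by norm_num) hN hP
    obtain ⟨-, h1, he⟩ := key A5 D
    exact ⟨by rw [card_cent D, h1], by rw [card_normalizer D, h1, he]⟩

end Cfsg.Agent.H86.MTwentyTwo
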