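import Cfsg.Agent.H86.MTwentyTwo.NoThirtyFive
import Cfsg.Agent.H86.MTwentyTwo.FiveSeven.Engine

/-!
The rows of a principal block at an involution, in the form used by the searches.
-/

set_option linter.unusedSectionVars false
set_option linter.style.haveILetI false

open scoped ComplexConjugate Classical

namespace Cfsg.Agent.H86.MTwentyTwo.FiveSeven

open CharBasic Subgroup BlockBasic

universe u

/-- An involution with its integral character values. -/
structure Col (G : Type u) [Group G] [Fintype G] where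
  z : G
  two : orderOf z = 2
  v : IrrCharacter G → ℤ
  hv : ∀ χ : IrrCharacter G, (χ : G → ℂ) z = v χ
  range : ∀ χ : IrrCharacter G, χ ≠ trivialIrr →
    (4 : ℤ) ∣ (charDegree (χ : G → ℂ) : ℤ) - v χ ∧ -(charDegree (χ : G → ℂ) : ℤ) < v χ ∧
      v χ < (charDegree (χ : G → ℂ) : ℤ)

variable {G : Type u} [Group G] [Fintype G] [IsSimpleGroup G]

theorem exists_col (hna : ¬ IsMulCommutative G) {z : G} (hz : orderOf z = 2) :
    ∃ C : Col G, C.z = z := by
  have hval : ∀ χ : IrrCharacter G, ∃ a : ℤ, (χ : G → ℂ) z = a ∧ (χ ≠ trivialIrr →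
      (4 : ℤ) ∣ (charDegree (χ : G → ℂ) : ℤ) - a ∧ -(charDegree (χ : G → ℂ) : ℤ) < a ∧
        a < (charDegree (χ : G → ℂ) : ℤ)) := by
    intro χ
    by_cases hχ : χ = trivialIrr
    · exact ⟨1, by rw [hχ, Int.cast_one]; rfl, fun h => absurd hχ h⟩
    · obtain ⟨a, h1, h2⟩ := Compute.G22.invol_value (exists_ne_mul hna) (χ := χ)
        (fun h => hχ (Subtype.ext h)) rfl hz
      exact ⟨a, h1, fun _ => h2⟩
  choose v hv hvr using hval
  exact ⟨⟨z, hz, v, hv, hvr⟩, rfl⟩

namespace Col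

variable (C : Col G)

/-- The order of the centraliser. -/
noncomputable def c : ℕ := Nat.card (centralizer ({C.z} : Set G))

/-- The size of the class. -/
noncomputable def h : ℕ := (centralizer ({C.z} : Set G)).index

/-- The member given by a character. -/
noncomputable def pr (χ : IrrCharacter G) : ℕ × ℤ := (charDegree (χ : G → ℂ), C.v χ)

theorem v_triv : C.v trivialIrr = 1 := by
  have h' : ((C.v trivialIrr : ℤ) : ℂ) = ((1 : ℤ) : ℂ) := by rw [← C.hv, Int.cast_one]; rfl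
  exact Int.cast_injective h'

theorem c_mul_h (hN : Nat.card G = N) : C.c * C.h = N :=
  hN ▸ (centralizer ({C.z} : Set G)).card_mul_index

theorem div_c (hN : Nat.card G = N) : N / C.c = C.h :=
  Nat.div_eq_of_eq_mul_right Nat.card_pos (C.c_mul_h hN).symm

theorem sum_sq_value (S : Finset (IrrCharacter G)) (hS : trivialIrr ∉ S) :
    1 + ∑ χ ∈ S, C.v χ * C.v χ ≤ (C.c : ℤ) := by
  have h := sum_sq_le_centralizer C.hv (insert trivialIrr S)
  rw [Finset.sum_insert hS, C.v_triv, one_pow] at h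
  simp only [sq] at h
  exact h

theorem reg {p : ℕ} [hp : Fact p.Prime] (h2 : p ≠ 2) : ¬ p ∣ orderOf C.z := by
  rw [C.two]
  exact fun hd => h2 ((Nat.prime_dvd_prime_iff_eq hp.out Nat.prime_two).1 hd)

end Col

theorem absP_sign {s : ℤ} (hs : s = 1 ∨ s = -1) {d : ℕ} (hd : 0 < d) (v : ℤ) :
    absP (s * (d : ℤ), s * v) = (d, v) := by
  rcases hs with rfl | rfl
  · simp [absP, hd]
  · simp [absP]

theorem sum_filter_map {α : Type*} (P : α → Bool) (f : α → ℤ) :
    ∀ l : List α, ((l.filter P).map f).sum = (l.map fun a => if P a then f a else 0).sum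
  | [] => rfl
  | a :: l => by
    have h := sum_filter_map P f l
    cases hP : P a <;> simp [List.filter_cons, hP, h]

variable {p : ℕ} [hp : Fact p.Prime] (D : SmallExc.PBlk G p) (C : Col G)

/-- The nontrivial characters of the principal block. -/
noncomputable def blockChars : Finset (IrrCharacter G) := D.X.erase trivialIrr ∪ D.Y

theorem ne_triv_of_mem {χ : IrrCharacter G} (h : χ ∈ blockChars D) : χ ≠ trivialIrr := by
  rcases Finset.mem_union.1 h with h | h
  · exact (Finset.mem_erase.1 h).1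
  · exact Y_ne_triv D h

theorem not_mem_triv : trivialIrr ∉ blockChars D := fun h => ne_triv_of_mem D h rfl

/-- The degrees in the block are prime to `p`. -/
theorem not_dvd_degree {χ : IrrCharacter G} (h : χ ∈ blockChars D) :
    ¬ p ∣ charDegree (χ : G → ℂ) := by
  intro hd
  have hd' : (p : ℤ) ∣ (charDegree (χ : G → ℂ) : ℤ) := Int.natCast_dvd_natCast.2 hd
  rcases Finset.mem_union.1 h with h | h
  · have h1 := (dvd_sub_right (hd'.mul_left (D.εX χ))).1 (X_degree_mod D (Finset.mem_erase.1 h).2)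
    have h2 : p ∣ 1 := by exact_mod_cast h1
    exact hp.out.ne_one (Nat.dvd_one.1 h2)
  · have h1 := (dvd_sub_right (hd'.mul_left D.ε)).1 (Y_degree_mod D h)
    have h2 : p ∣ D.e := by exact_mod_cast h1
    have h3 := Nat.le_of_dvd D.e_pos h2
    have h4 := D.e_le
    have h5 := hp.out.two_le
    omega

/-- The signed option of a non-exceptional character. -/
noncomputable def sig (χ : IrrCharacter G) : ℤ × ℤ :=
  (D.εX χ * (charDegree (χ : G → ℂ) : ℤ), D.εX χ * C.v χ)

/-- A list of the options of the block. -/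
def Row (L : List (ℤ × ℤ)) : Prop := L.Perm ((D.X.erase trivialIrr).toList.map (sig D C))

variable {D C} {L : List (ℤ × ℤ)}

theorem Row.length (hL : Row D C L) : L.length + 1 = D.e := by
  rw [hL.length_eq, List.length_map, Finset.length_toList, Finset.card_erase_of_mem D.trivX, D.cardX]
  exact Nat.sub_add_cancel D.e_pos

theorem Row.exists_char (hL : Row D C L) {o : ℤ × ℤ} (ho : o ∈ L) :
    ∃ χ ∈ D.X, χ ≠ trivialIrr ∧ o = sig D C χ := by
  obtain ⟨χ, hχ, rfl⟩ := List.mem_map.1 (hL.mem_iff.1 ho)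
  obtain ⟨h1, h2⟩ := Finset.mem_erase.1 (Finset.mem_toList.1 hχ)
  exact ⟨χ, h2, h1, rfl⟩

theorem Row.excT_eq (hL : Row D C L) {θ : IrrCharacter G} (hθ : θ ∈ D.Y) :
    excT (degsOf L) = D.ε * (charDegree (θ : G → ℂ) : ℤ) := by
  rw [excT, degsOf, (hL.map Prod.fst).sum_eq, List.map_map, Finset.sum_map_toList, D.rel_one hθ,
    ← Finset.add_sum_erase _ _ D.trivX, D.εX_triv, D.charDegree_triv, Nat.cast_one, mul_one]
  rfl

theorem Row.excW_eq (hL : Row D C L) (h2 : p ≠ 2) {θ : IrrCharacter G} (hθ : θ ∈ D.Y) :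
    excW L = D.ε * C.v θ := by
  rw [excW, (hL.map Prod.snd).sum_eq, List.map_map, Finset.sum_map_toList,
    sign_eq D (C.reg h2) (fun χ _ => C.hv χ) hθ, ← Finset.add_sum_erase _ _ D.trivX, D.εX_triv,
    C.v_triv, mul_one]
  rfl

theorem value_Y (h2 : p ≠ 2) {θ θ' : IrrCharacter G} (hθ : θ ∈ D.Y) (hθ' : θ' ∈ D.Y) :
    C.v θ' = C.v θ := by
  have h := D.agree θ' hθ' θ hθ C.z (C.reg h2)
  rw [C.hv, C.hv] at h
  exact_mod_cast h

theorem Row.members_eq (hL : Row D C L) (h2 : p ≠ 2) :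
    (members p D.e L).Perm ((blockChars D).toList.map C.pr) := by
  obtain ⟨θ, hθ⟩ := D.Y_nonempty
  have h1 : ((D.X.erase trivialIrr).toList.map (sig D C)).map absP =
      (D.X.erase trivialIrr).toList.map C.pr := by
    rw [List.map_map]
    refine List.map_congr_left fun χ hχ => ?_
    exact absP_sign (D.sign χ (Finset.mem_of_mem_erase (Finset.mem_toList.1 hχ))) (charDegree_pos χ) _
  have h3 : List.replicate ((p - 1) / D.e) (absP (excT (degsOf L), excW L)) = D.Y.toList.map C.pr := by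
    rw [hL.excT_eq hθ, hL.excW_eq h2 hθ, absP_sign D.hε (charDegree_pos θ)]
    symm
    refine List.eq_replicate_iff.2 ⟨?_, fun b hb => ?_⟩
    · rw [List.length_map, Finset.length_toList, card_Y_eq D]; rfl
    · obtain ⟨θ', hθ', rfl⟩ := List.mem_map.1 hb
      rw [Col.pr, D.degree_Y (Finset.mem_toList.1 hθ') hθ, value_Y h2 hθ (Finset.mem_toList.1 hθ')]
  have h4 : ((D.X.erase trivialIrr).toList ++ D.Y.toList).Perm (blockChars D).toList := by
    refine (List.perm_ext_iff_of_nodup ?_ (Finset.nodup_toList _)).2 fun χ => by simp [blockChars]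
    refine List.nodup_append.2 ⟨Finset.nodup_toList _, Finset.nodup_toList _, fun a ha b hb => ?_⟩
    rintro rfl
    exact Finset.disjoint_left.1 D.disj (Finset.mem_of_mem_erase (Finset.mem_toList.1 ha))
      (Finset.mem_toList.1 hb)
  rw [members, h3]
  refine List.Perm.trans ?_ (h4.map C.pr)
  rw [List.map_append, ← h1]
  exact (hL.map absP).append (List.Perm.refl _)

theorem Row.mem_members (hL : Row D C L) (h2 : p ≠ 2) {a : ℕ × ℤ} :
    a ∈ members p D.e L ↔ ∃ χ ∈ blockChars D, C.pr χ = a := by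
  rw [(hL.members_eq h2).mem_iff, List.mem_map]
  simp only [Finset.mem_toList]

theorem Row.mem_memD (hL : Row D C L) (h2 : p ≠ 2) {χ : IrrCharacter G} (hχ : χ ∈ blockChars D) :
    charDegree (χ : G → ℂ) ∈ memD p D.e (degsOf L) := by
  rw [memD_degsOf]
  exact List.mem_map.2 ⟨C.pr χ, (hL.mem_members h2).2 ⟨χ, hχ, rfl⟩, rfl⟩

theorem Row.sum_members (hL : Row D C L) (h2 : p ≠ 2) (f : ℕ × ℤ → ℤ) :
    ((members p D.e L).map f).sum = ∑ χ ∈ blockChars D, f (C.pr χ) := by
  rw [((hL.members_eq h2).map f).sum_eq, List.map_map, Finset.sum_map_toList]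
  rfl

theorem sum_members_list (p e : ℕ) (L : List (ℤ × ℤ)) (f : ℕ × ℤ → ℤ) :
    ((members p e L).map f).sum =
      (L.map fun o => f (absP o)).sum + (((p - 1) / e : ℕ) : ℤ) * f (absP (excT (degsOf L), excW L)) := by
  simp [members, List.map_map, Function.comp_def]

theorem Row.deg_sq_le (hL : Row D C L) (h2 : p ≠ 2) :
    1 + ((degsOf L).map fun F => F * F).sum + (((p - 1) / D.e : ℕ) : ℤ) *
      (excT (degsOf L) * excT (degsOf L)) ≤ (Nat.card G : ℤ) := by
  have h := sum_deg_sq_le (insert trivialIrr (blockChars D))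
  rw [Finset.sum_insert (not_mem_triv D), D.charDegree_triv] at h
  have h1 := hL.sum_members h2 (fun a => (a.1 : ℤ) * a.1)
  rw [sum_members_list] at h1
  simp only [absP, Int.natAbs_mul_self', Int.natCast_natAbs, abs_mul_abs_self] at h1
  simp only [Nat.cast_one, one_pow, sq] at h
  simp only [degsOf, List.map_map, Function.comp_def]
  have h3 : ∀ χ : IrrCharacter G, ((C.pr χ).1 : ℤ) = (charDegree (χ : G → ℂ) : ℤ) := fun χ => rfl
  simp only [h3, degsOf] at h1
  linarith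

theorem Row.val_sq_le (hL : Row D C L) (h2 : p ≠ 2) :
    1 + sumSq2 L + (((p - 1) / D.e : ℕ) : ℤ) * (excW L * excW L) ≤ (C.c : ℤ) := by
  have h := C.sum_sq_value (blockChars D) (not_mem_triv D)
  have h1 := hL.sum_members h2 (fun a => a.2 * a.2)
  rw [sum_members_list] at h1
  have h3 : ∀ o : ℤ × ℤ, (absP o).2 * (absP o).2 = o.2 * o.2 := fun o => by
    simp only [absP]; split_ifs <;> ring
  simp only [h3] at h1
  simp only [sumSq2]
  have h4 : ∀ χ : IrrCharacter G, (C.pr χ).2 = C.v χ := fun χ => rfl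
  simp only [h4] at h1
  linarith

theorem Row.baseOK_of_mem (hL : Row D C L) (hN : Nat.card G = N) {o : ℤ × ℤ} (ho : o ∈ L) :
    baseOK C.c C.h o.1 o.2 = true := by
  obtain ⟨χ, hχ, hne, rfl⟩ := hL.exists_char ho
  obtain ⟨h4, hlo, hhi⟩ := C.range χ hne
  have hdv := dvd_index_mul χ (C.hv χ)
  have hc := C.sum_sq_value {χ} (by simpa using (Ne.symm hne))
  rw [Finset.sum_singleton] at hc
  show baseOK C.c C.h (D.εX χ * (charDegree (χ : G → ℂ) : ℤ)) (D.εX χ * C.v χ) = true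
  simp only [baseOK, Bool.and_eq_true, decide_eq_true_eq, beq_iff_eq]
  refine ⟨⟨⟨?_, ?_⟩, Int.emod_eq_zero_of_dvd ?_⟩, ?_⟩
  · rcases D.sign χ hχ with e | e <;> rw [e] <;> omega
  · rcases D.sign χ hχ with e | e <;> rw [e] <;> omega
  · rw [mul_left_comm]; exact mul_dvd_mul_left _ hdv
  · rcases D.sign χ hχ with e | e <;> rw [e] <;> linarith

theorem Row.mem_sideVals (hL : Row D C L) (hN : Nat.card G = N) (h2 : p ≠ 2) (hzC : C.z ∈ Cent D)
    {o : ℤ × ℤ} (ho : o ∈ L) : o.2 ∈ sideVals p C.c C.h o.1 := by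
  refine List.mem_filter.2 ⟨?_, hL.baseOK_of_mem hN ho⟩
  obtain ⟨χ, hχ, hne, rfl⟩ := hL.exists_char ho
  obtain ⟨-, hlo, hhi⟩ := C.range χ hne
  obtain ⟨k, hk⟩ := Int.modEq_iff_dvd.1 (val_X_modEq D hχ hzC (C.reg h2) (C.hv χ)).symm
  set d := charDegree (χ : G → ℂ) with hd
  have hp0 : 0 < (p : ℤ) := by exact_mod_cast hp.out.pos
  have hm : d < p * (d / p + 1) := Nat.lt_mul_div_succ d hp.out.pos
  have hmz : (d : ℤ) < (p : ℤ) * ((d / p + 1 : ℕ) : ℤ) := by exact_mod_cast hm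
  have hnat : (sig D C χ).1.natAbs = d := natAbs_sign_mul (D.sign χ hχ) d
  obtain ⟨j, hj, hjb⟩ : ∃ j : ℤ, (sig D C χ).2 = 1 + (p : ℤ) * j ∧
      -((d / p + 1 : ℕ) : ℤ) ≤ j ∧ j ≤ ((d / p + 1 : ℕ) : ℤ) := by
    have hp2 : (2 : ℤ) ≤ (p : ℤ) := by exact_mod_cast hp.out.two_le
    rcases D.sign χ hχ with e | e
    · refine ⟨k, by simp only [sig, e]; rw [e] at hk; linarith, ?_, ?_⟩ <;> rw [e] at hk
      · by_contra hh
        have : (p : ℤ) * k ≤ (p : ℤ) * (-((d / p + 1 : ℕ) : ℤ) - 1) :=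
          mul_le_mul_of_nonneg_left (by omega) hp0.le
        nlinarith
      · by_contra hh
        have : (p : ℤ) * (((d / p + 1 : ℕ) : ℤ) + 1) ≤ (p : ℤ) * k :=
          mul_le_mul_of_nonneg_left (by omega) hp0.le
        nlinarith
    · refine ⟨-k, by simp only [sig, e]; rw [e] at hk; linarith, ?_, ?_⟩ <;> rw [e] at hk
      · by_contra hh
        have : (p : ℤ) * (((d / p + 1 : ℕ) : ℤ) + 1) ≤ (p : ℤ) * k :=
          mul_le_mul_of_nonneg_left (by omega) hp0.le
        nlinarith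
      · by_contra hh
        have : (p : ℤ) * k ≤ (p : ℤ) * (-((d / p + 1 : ℕ) : ℤ) - 1) :=
          mul_le_mul_of_nonneg_left (by omega) hp0.le
        nlinarith
  rw [hnat]
  refine List.mem_map.2 ⟨(j + ((d / p + 1 : ℕ) : ℤ)).toNat, List.mem_range.2 (by omega), ?_⟩
  rw [hj, Int.toNat_of_nonneg (by omega), add_sub_cancel_right]

theorem Row.mem_freeVals (hL : Row D C L) (hN : Nat.card G = N) {q : ℕ} [Fact q.Prime]
    (D' : SmallExc.PBlk G q) (hq : q ≠ 2) (hzC : C.z ∈ Cent D') {o : ℤ × ℤ} (ho : o ∈ L) :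
    o.2 ∈ freeVals q C.c C.h o.1 := by
  have hb := hL.baseOK_of_mem hN ho
  obtain ⟨χ, hχ, hne, rfl⟩ := hL.exists_char ho
  refine List.mem_filter.2 ⟨?_, ?_⟩
  · simp only [baseOK, Bool.and_eq_true, decide_eq_true_eq, beq_iff_eq] at hb
    obtain ⟨⟨⟨h4, habs⟩, -⟩, -⟩ := hb
    set F := (sig D C χ).1 with hF
    set w := (sig D C χ).2 with hw
    refine List.mem_map.2 ⟨((F - w).natAbs / 4), List.mem_range.2 (by omega), ?_⟩
    split_ifs with hpos <;> omega
  · rw [hb, Bool.true_and, show (sig D C χ).1.natAbs = charDegree (χ : G → ℂ) from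
      natAbs_sign_mul (D.sign χ hχ) _]
    simp only [Bool.or_eq_true, Bool.not_eq_true', beq_eq_false_iff_ne, beq_iff_eq]
    by_cases hd : q ∣ charDegree (χ : G → ℂ)
    · right
      have h := val_defect_modEq D' hd hzC (C.reg hq) (C.hv χ)
      exact Int.emod_eq_zero_of_dvd ((Int.modEq_zero_iff_dvd.1 h).mul_left _)
    · left; exact fun h => hd (Nat.dvd_of_mod_eq_zero h)

/-- A forced member fixes the value at a degree occurring once. -/
theorem mem_pin {p e : ℕ} {L : List (ℤ × ℤ)} {req : List (ℕ × ℤ)}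
    (hreq : ∀ a ∈ req, a ∈ members p e L) {o : ℤ × ℤ} (ho : o ∈ L) {us : List ℤ} (hu : o.2 ∈ us) :
    o.2 ∈ pin req (degsOf L) o.1 us := by
  unfold pin
  split_ifs with hc
  · simp only [Bool.and_eq_true, beq_iff_eq, Bool.not_eq_true', beq_eq_false_iff_ne] at hc
    obtain ⟨hcount, hT⟩ := hc
    refine List.mem_filter.2 ⟨hu, List.all_eq_true.2 fun a ha => ?_⟩
    by_cases h1 : a.1 = o.1.natAbs
    · rw [Bool.or_eq_true, beq_iff_eq]
      right
      rcases List.mem_append.1 (hreq a ha) with h | h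
      · obtain ⟨o', ho', rfl⟩ := List.mem_map.1 h
        rw [degsOf, List.countP_map, List.countP_eq_length_filter, List.length_eq_one_iff] at hcount
        obtain ⟨b, hb⟩ := hcount
        have e1 : o ∈ [b] := hb ▸ List.mem_filter.2 ⟨ho, by simp⟩
        have e2 : o' ∈ [b] := hb ▸ List.mem_filter.2 ⟨ho', by simpa [absP] using h1⟩
        rw [List.mem_singleton.1 e1, List.mem_singleton.1 e2]
      · rw [List.eq_of_mem_replicate h] at h1
        exact absurd h1 hT
    · simp [h1]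
  · exact hu

theorem Row.excVal_of (hL : Row D C L) (h2 : p ≠ 2) {θ : IrrCharacter G} (hθ : θ ∈ D.Y) :
    excVal p D.e C.c C.h L = true := by
  have hval := hL.val_sq_le h2
  obtain ⟨h4, hlo, hhi⟩ := C.range θ (Y_ne_triv D hθ)
  have hdv := dvd_index_mul θ (C.hv θ)
  rw [hL.excW_eq h2 hθ] at hval
  simp only [excVal, hL.excT_eq hθ, hL.excW_eq h2 hθ, Bool.and_eq_true, decide_eq_true_eq, beq_iff_eq]
  refine ⟨⟨⟨?_, ?_⟩, Int.emod_eq_zero_of_dvd ?_⟩, hval⟩
  · rcases D.hε with e | e <;> rw [e] <;> omega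
  · rcases D.hε with e | e <;> rw [e] <;> omega
  · rw [mul_left_comm]; exact mul_dvd_mul_left _ hdv

theorem Row.sqNum_eq (hL : Row D C L) (h2 : p ≠ 2) (hN : Nat.card G = N) {θ : IrrCharacter G}
    (hθ : θ ∈ D.Y) : ((sqNum L : ℤ) : ℚ) = (N : ℚ) * sqSum D C.v θ := by
  have hdvd : ∀ χ : IrrCharacter G, (charDegree (χ : G → ℂ) : ℤ) ∣ (N : ℤ) := fun χ =>
    Int.natCast_dvd_natCast.2 (hN ▸ H83.charDegree_dvd_card χ.2)
  have h3 : ∀ χ : IrrCharacter G, (charDegree (χ : G → ℂ) : ℚ) ≠ 0 := fun χ =>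
    Nat.cast_ne_zero.2 (charDegree_pos χ).ne'
  have key : ∀ (s : ℤ) (χ : IrrCharacter G) (w : ℤ), s = 1 ∨ s = -1 →
      ((((N : ℤ) / (s * (charDegree (χ : G → ℂ) : ℤ)) * (s * w * (s * w)) : ℤ)) : ℚ) =
        (N : ℚ) * ((s : ℚ) * (w : ℚ) ^ 2 / (charDegree (χ : G → ℂ) : ℚ)) := by
    intro s χ w hs
    have hd : s * (charDegree (χ : G → ℂ) : ℤ) ∣ (N : ℤ) := by
      rcases hs with rfl | rfl <;> simpa using hdvd χ
    have h1 : ((s * (charDegree (χ : G → ℂ) : ℤ) : ℤ) : ℚ) ≠ 0 := by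
      push_cast
      rcases hs with rfl | rfl <;> simp [h3 χ]
    rw [Int.cast_mul, Int.cast_div hd h1]
    have h4 := h3 χ
    rcases hs with rfl | rfl <;> push_cast <;> field_simp
  rw [sqNum, hL.excT_eq hθ, hL.excW_eq h2 hθ, (hL.map (fun o : ℤ × ℤ => (N : ℤ) / o.1 * (o.2 * o.2))).sum_eq,
    List.map_map, Finset.sum_map_toList, Int.cast_sub, Int.cast_add, Int.cast_sum, key D.ε θ (C.v θ) D.hε,
    sqSum, ← Finset.add_sum_erase _ _ D.trivX, D.εX_triv, C.v_triv, D.charDegree_triv, mul_sub, mul_add,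
    Finset.mul_sum]
  refine congrArg₂ (· - ·) (congrArg₂ (· + ·) ?_ (Finset.sum_congr rfl fun χ hχ => ?_)) rfl
  · push_cast; ring
  · exact key (D.εX χ) χ (C.v χ) (D.sign χ (Finset.mem_of_mem_erase hχ))

/-- Characters of degree prime to `q` lie in the block of a self-centralising Sylow `q`-subgroup. -/
theorem mem_blockChars (hC : Cent D = (D.P : Subgroup G)) {χ : IrrCharacter G} (hne : χ ≠ trivialIrr)
    (hd : ¬ p ∣ charDegree (χ : G → ℂ)) : χ ∈ blockChars D := by
  by_contra h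
  simp only [blockChars, Finset.mem_union, Finset.mem_erase, not_or, not_and] at h
  exact hd (dvd_degree_outside D hC (h.1 hne) h.2)

theorem Row.member_of_coprime (hL : Row D C L) (h2 : p ≠ 2) (hC : Cent D = (D.P : Subgroup G))
    {χ : IrrCharacter G} (hne : χ ≠ trivialIrr) (hd : ¬ p ∣ charDegree (χ : G → ℂ)) :
    C.pr χ ∈ members p D.e L :=
  (hL.mem_members h2).2 ⟨χ, mem_blockChars hC hne hd, rfl⟩

/-- The cross condition. -/
theorem Row.cross_of (hL : Row D C L) (h2 : p ≠ 2) (hC : Cent D = (D.P : Subgroup G))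
    {A : List (ℕ × ℤ)} (hA : ∀ a ∈ A, ∃ χ : IrrCharacter G, χ ≠ trivialIrr ∧ C.pr χ = a) :
    cross p A (members p D.e L) = true := by
  refine List.all_eq_true.2 fun a ha => ?_
  rw [Bool.or_eq_true, beq_iff_eq, List.contains_iff_mem]
  obtain ⟨χ, hne, rfl⟩ := hA a ha
  by_cases hd : p ∣ charDegree (χ : G → ℂ)
  · exact Or.inl (Nat.mod_eq_zero_of_dvd hd)
  · exact Or.inr (hL.member_of_coprime h2 hC hne hd)

theorem Row.isPr (hL : Row D C L) (h2 : p ≠ 2) {a : ℕ × ℤ} (ha : a ∈ members p D.e L) :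
    ∃ χ : IrrCharacter G, χ ≠ trivialIrr ∧ C.pr χ = a := by
  obtain ⟨χ, hχ, e⟩ := (hL.mem_members h2).1 ha
  exact ⟨χ, ne_triv_of_mem D hχ, e⟩

theorem nInv_le (D : SmallExc.PBlk G p) {x z : G} (hx : x ∈ (D.P : Subgroup G)) (hx1 : x ≠ 1) :
    nInv z x ≤ p * coSize D := by
  rcases isEmpty_or_nonempty {a : G // Inverts z x a} with h | ⟨⟨a₀, ha₀⟩⟩
  · rw [nInv, Nat.card_of_isEmpty]; exact Nat.zero_le _
  rw [← card_cent D, nInv]
  exact Nat.card_le_card_of_injective
    (fun a => (⟨a.1 * a₀, mul_mem_cent hx hx1 a.2.2 ha₀.2⟩ : Cent D))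
    fun a b hab => Subtype.ext (mul_right_cancel (congrArg Subtype.val hab))

/-- The square rule, in integers. -/
theorem Row.square (hL : Row D C L) (h2 : p ≠ 2) (hN : Nat.card G = N) :
    ∃ k : ℕ, k ≤ coSize D ∧ (Odd D.e → k = 0) ∧
      (p : ℤ) * (coSize D : ℤ) * ((C.h : ℤ) * C.h) * sqNum L =
        ((p * k : ℕ) : ℤ) * (p * k : ℕ) * ((N : ℤ) * N) := by
  obtain ⟨x, hx, hx1⟩ := D.exists_ne_one
  obtain ⟨θ, hθ⟩ := D.Y_nonempty
  obtain ⟨k, hk⟩ := dvd_nInv hx hx1 h2 C.two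
  refine ⟨k, ?_, ?_, ?_⟩
  · have h := nInv_le D (z := C.z) hx hx1
    rw [hk] at h
    exact Nat.le_of_mul_le_mul_left h hp.out.pos
  · intro ho
    have h := nInv_eq_zero_of_odd hx hx1 h2 ho C.two
    rw [hk] at h
    exact (Nat.mul_eq_zero.1 h).resolve_left hp.out.ne_zero
  · have hrule := square_rule hx hx1 h2 C.two (fun χ _ => C.hv χ) hθ
    rw [hk, hN] at hrule
    have hnum := hL.sqNum_eq h2 hN hθ
    have hh : C.h = (centralizer ({C.z} : Set G)).index := rfl
    rw [← hh] at hrule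
    have : (((p : ℤ) * (coSize D : ℤ) * ((C.h : ℤ) * C.h) * sqNum L : ℤ) : ℚ) =
        ((((p * k : ℕ) : ℤ) * (p * k : ℕ) * ((N : ℤ) * N) : ℤ) : ℚ) := by
      push_cast at hrule ⊢
      rw [hnum]
      linear_combination (N : ℚ) * hrule
    exact_mod_cast this

end Cfsg.Agent.H86.MTwentyTwo.FiveSeven
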