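import Cfsg.Agent.H86.MTwentyTwo.FiveSeven.Engine

/-!
Tables of signed degrees and values for the searches at the primes 5, 7 and 11.
-/

set_option autoImplicit false
set_option maxRecDepth 10000

namespace Cfsg.Agent.H86.MTwentyTwo.FiveSeven.Table

/-- Signed degrees for the prime 5 with a centralising involution. -/
def cand5Side : List ℤ :=
  [11, 16, 21, -44, 56, 66, -99, 126, -144, -154, 176, 231, -264, 336, 396, 616]

/-- Signed degrees for the prime 7 with a centralising involution. -/
def cand7Side : List ℤ :=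
  [22, -55, 99, 120, -132, -160, 176, 330, -440]

/-- Signed degrees for the prime 5. -/
def cand5 : List ℤ :=
  [6, 11, 16, 21, -44, 56, 66, -99, 126, -144, -154, 176, 231, -264, 336, -384, 396, 616]

/-- Signed degrees for the prime 7. -/
def cand7 : List ℤ :=
  [-6, 22, -55, 99, 120, -132, -160, 176, 330, -384, -440]

/-- Signed degrees for the prime 11. -/
def cand11 : List ℤ :=
  [-10, 12, -21, -32, 45, 56, -120, 144, 210, -252, 320, -384, -560]

/-- Degree lists for the prime 5, index 2, with a centralising involution. -/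
def degs5E2 : List (List ℤ) :=
  [
    [21], [11]]

/-- Degree lists for the prime 5, index 4, with a centralising involution. -/
def degs5E4 : List (List ℤ) :=
  [
    [-154, -264, 396], [126, 126, -264], [126, 126, -154], [-99, -154, 396], [-99, -154, 231],
    [-99, 126, -154], [-99, 126, 126], [66, 176, -264], [66, -154, 231], [66, 66, -154],
    [-44, -154, 176], [-44, -99, 126], [-44, -44, 231], [-44, -44, 66], [21, -264, 396],
    [21, 231, -264], [21, 176, -264], [21, -154, 396], [21, -154, -264], [21, -154, 231],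
    [21, -154, 176], [21, -99, 231], [21, -99, -154], [21, -99, -99], [21, 66, -264], [21, 66, 176],
    [21, 66, -154], [21, 66, -99], [21, 66, 66], [21, 56, -99], [21, 56, 66], [21, -44, 176],
    [21, -44, -154], [21, -44, 66], [21, -44, -44], [21, 21, -99], [21, 21, 56], [16, 231, -264],
    [16, 16, -264], [16, 16, 231], [16, 16, -44], [11, -264, 396], [11, 231, -264], [11, 126, -264],
    [11, 126, -154], [11, 126, 126], [11, -99, 231], [11, 66, -99], [11, 66, 66], [11, 21, -264],
    [11, 21, 231], [11, 21, -99], [11, 21, 66], [11, 21, -44], [11, 16, -44], [11, 16, 16],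
    [11, 11, -44], [11, 11, 21]]

/-- Degree lists for the prime 7, index 2, with a centralising involution. -/
def degs7E2 : List (List ℤ) :=
  []

/-- Degree lists for the prime 7, index 3, with a centralising involution. -/
def degs7E3 : List (List ℤ) :=
  [
    [-132, 176], [120, -132], [99, 120], [-55, 120], [-55, 99], [22, 22]]

/-- Degree lists for the prime 7, index 6, with a centralising involution. -/
def degs7E6 : List (List ℤ) :=
  [
    [-132, -160, -160, 176, 330], [-132, -160, -160, 176, 176], [120, -132, 176, 330, -440],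
    [120, -132, 176, 176, -440], [120, -132, -132, -132, 330], [120, -132, -132, -132, 176],
    [99, -160, -160, 176, 176], [99, -132, 176, 176, -440], [99, -132, -160, 176, 176],
    [99, -132, -160, -160, 330], [99, -132, -160, -160, 176], [99, -132, -132, -132, 176],
    [99, 120, 176, 176, -440], [99, 120, -132, 330, -440], [99, 120, -132, 176, -440],
    [99, 120, -132, 176, 176], [99, 120, -132, -132, 176], [99, 120, -132, -132, -132],
    [99, 99, -160, -160, 176], [99, 99, 120, 176, -440], [99, 99, 120, -132, -132],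
    [99, 99, 99, -160, -160], [99, 99, 99, 120, -440], [-55, -160, -160, 176, 330],
    [-55, -160, -160, 176, 176], [-55, -132, 176, 330, -440], [-55, -132, -160, 176, 330],
    [-55, -132, -160, -160, 330], [-55, -132, -160, -160, 176], [-55, -132, -132, -132, 330],
    [-55, 120, 176, 330, -440], [-55, 120, 176, 176, -440], [-55, 120, -132, 330, -440],
    [-55, 120, -132, 176, -440], [-55, 120, -132, 176, 330], [-55, 120, -132, -132, 330],
    [-55, 120, -132, -132, 176], [-55, 120, -132, -132, -132], [-55, 99, -160, -160, 330],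
    [-55, 99, -160, -160, 176], [-55, 99, 120, 330, -440], [-55, 99, 120, 176, -440],
    [-55, 99, 120, -132, -132], [-55, 99, 99, 176, -440], [-55, 99, 99, -160, 176],
    [-55, 99, 99, -160, -160], [-55, 99, 99, -132, -132], [-55, 99, 99, 120, -440],
    [-55, 99, 99, 120, 176], [-55, 99, 99, 120, -132], [-55, -55, -160, -160, 330],
    [-55, -55, 120, 330, -440], [-55, -55, 120, -132, 176], [-55, -55, 99, 330, -440],
    [-55, -55, 99, -160, 330], [-55, -55, 99, -160, -160], [-55, -55, 99, 120, -440],
    [-55, -55, 99, 120, 330], [-55, -55, 99, 120, -132], [-55, -55, -55, -132, 176],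
    [-55, -55, -55, 120, 176], [-55, -55, -55, 120, -132], [-55, -55, -55, 99, 120],
    [-55, -55, -55, -55, 120], [-55, -55, -55, -55, 99], [22, -160, -160, 176, 176],
    [22, -132, -160, -160, 330], [22, 120, 176, 176, -440], [22, 120, -132, 330, -440],
    [22, 120, -132, -132, 176], [22, 99, -160, -160, 330], [22, 99, -160, -160, 176],
    [22, 99, -132, 330, -440], [22, 99, -132, -160, 330], [22, 99, -132, -160, -160],
    [22, 99, 120, 330, -440], [22, 99, 120, 176, -440], [22, 99, 120, -132, -440],
    [22, 99, 120, -132, 330], [22, 99, 120, -132, -132], [22, 99, 99, -160, -160],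
    [22, 99, 99, 120, -440], [22, 99, 99, 99, -440], [22, 99, 99, 99, -160], [22, 99, 99, 99, 120],
    [22, -55, 176, 176, -440], [22, -55, -160, 176, 176], [22, -55, -160, -160, 330],
    [22, -55, -160, -160, 176], [22, -55, -132, -132, 176], [22, -55, 120, 330, -440],
    [22, -55, 120, 176, -440], [22, -55, 120, 176, 176], [22, -55, 120, -132, 176],
    [22, -55, 120, -132, -132], [22, -55, 99, 120, -132], [22, -55, -55, 120, -132],
    [22, -55, -55, 99, -132], [22, -55, -55, 99, 120], [22, -55, -55, -55, 120],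
    [22, 22, -160, -160, 330], [22, 22, -160, -160, 176], [22, 22, 120, 330, -440],
    [22, 22, 120, 176, -440], [22, 22, 120, -132, -132], [22, 22, 99, 176, -440],
    [22, 22, 99, -160, 176], [22, 22, 99, -160, -160], [22, 22, 99, -132, -132],
    [22, 22, 99, 120, -440], [22, 22, 99, 120, 176], [22, 22, 99, 120, -132],
    [22, 22, -55, 330, -440], [22, 22, -55, -160, 330], [22, 22, -55, -160, -160],
    [22, 22, -55, 120, -440], [22, 22, -55, 120, 330], [22, 22, -55, 120, -132],
    [22, 22, -55, -55, 120], [22, 22, -55, -55, -55], [22, 22, 22, 120, -132],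
    [22, 22, 22, -55, -132], [22, 22, 22, -55, 120]]

/-- Degree lists for the prime 5. -/
def degs5 : List (List ℤ) :=
  [
    [176, 231, -264], [-154, -264, 396], [-144, -264, 396], [-144, 231, -264], [-144, 176, -264],
    [-144, 176, 231], [-144, -154, 396], [-144, -154, 231], [-144, -144, 231], [126, 126, -264],
    [126, 126, -154], [-99, -154, 396], [-99, -154, 231], [-99, -144, 396], [-99, -144, 231],
    [-99, -144, 176], [-99, -144, -154], [-99, 126, -154], [-99, 126, 126], [-99, -99, 176],
    [66, 176, -264], [66, -154, 231], [66, -144, 231], [66, -144, 176], [66, -144, -154],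
    [66, -99, 176], [66, -99, -144], [66, 66, -154], [66, 66, -144], [56, -144, 231],
    [56, -144, -144], [56, 66, -144], [-44, -154, 176], [-44, -144, 231], [-44, -144, 176],
    [-44, -99, 126], [-44, -44, 231], [-44, -44, -144], [-44, -44, 66], [21, -264, 396],
    [21, 231, -264], [21, 176, -264], [21, -154, 396], [21, -154, -264], [21, -154, 231],
    [21, -154, 176], [21, 126, -154], [21, -99, 231], [21, -99, 176], [21, -99, -154],
    [21, -99, -99], [21, 66, -264], [21, 66, 176], [21, 66, -154], [21, 66, -144], [21, 66, -99],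
    [21, 66, 66], [21, 56, -144], [21, 56, -99], [21, 56, 66], [21, -44, 176], [21, -44, -154],
    [21, -44, 66], [21, -44, -44], [21, 21, -99], [21, 21, 56], [16, 231, -264], [16, 126, -154],
    [16, -99, 126], [16, 66, -99], [16, -44, 126], [16, -44, -99], [16, 21, -44], [16, 16, -264],
    [16, 16, 231], [16, 16, -99], [16, 16, 66], [16, 16, -44], [11, -264, 396], [11, 231, -264],
    [11, -144, 396], [11, -144, -264], [11, -144, 231], [11, -144, 176], [11, 126, -264],
    [11, 126, -154], [11, 126, -144], [11, 126, 126], [11, -99, 231], [11, -99, -144],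
    [11, 66, -144], [11, 66, -99], [11, 66, 66], [11, -44, 176], [11, -44, -144], [11, 21, -264],
    [11, 21, 231], [11, 21, -99], [11, 21, 66], [11, 21, -44], [11, 16, -154], [11, 16, 126],
    [11, 16, -44], [11, 16, 16], [11, 11, -44], [11, 11, 21], [6, 126, -154], [6, 126, -144],
    [6, 21, -154], [6, 21, 126], [6, 21, -44], [6, 16, -44], [6, 16, 21], [6, 11, -144],
    [6, 11, 126]]

/-- Degree lists for the prime 7. -/
def degs7 : List (List ℤ) :=
  [
    [-132, 176], [120, -132], [99, -160], [99, -132], [99, 120], [-55, 120], [-55, 99], [22, -55],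
    [22, 22], [-6, -160], [-6, -55], [-6, -6]]

/-- Degree lists for the prime 11. -/
def degs11 : List (List ℤ) :=
  [
    [-252, 320, 320, -384], [210, -252, 320, -384], [144, 210, 210, -560], [56, -120, -252, 320],
    [56, -120, 210, -252], [56, 56, 144, -252], [45, 210, 320, -384], [45, 144, 320, -384],
    [45, 144, 210, -560], [45, 144, 210, -384], [45, -120, -252, 320], [45, -120, 144, 210],
    [45, -120, -120, 320], [45, -120, -120, 210], [45, 56, 210, -384], [45, 56, 210, -252],
    [45, 56, 144, -252], [45, 56, -120, 210], [45, 56, -120, 144], [45, 45, 56, -252],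
    [45, 45, 45, 144], [45, 45, 45, -120], [45, 45, 45, 56], [-32, 210, 210, -384],
    [-32, 144, 144, -252], [-32, 45, 210, -384], [-32, 45, 210, -252], [-32, 45, 56, 210],
    [-32, 45, 56, 56], [-32, -32, -252, 320], [-32, -32, 210, -252], [-32, -32, 45, 210],
    [-32, -32, 45, 144], [-21, 210, 320, -384], [-21, 210, 210, -384], [-21, 144, 320, -384],
    [-21, 144, -252, 320], [-21, 144, 144, -252], [-21, -120, -252, 320], [-21, -120, 210, 210],
    [-21, -120, -120, 320], [-21, 56, 320, -384], [-21, 56, 210, -252], [-21, 56, 144, -252],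
    [-21, 56, -120, -252], [-21, 56, -120, 210], [-21, 56, -120, 144], [-21, 56, 56, -252],
    [-21, 56, 56, -120], [-21, 45, 45, 210], [-21, 45, 45, 56], [-21, -32, -252, 320],
    [-21, -32, 144, -252], [-21, -32, -120, 144], [-21, -32, 56, 56], [-21, -32, -32, -252],
    [-21, -32, -32, 210], [-21, -32, -32, 144], [-21, -32, -32, 56], [-21, -21, 320, -384],
    [-21, -21, 56, -120], [-21, -21, 45, 56], [-21, -21, -32, 45], [-21, -21, -32, -32],
    [-21, -21, -21, 56], [12, 56, 320, -384], [12, 56, 210, -384], [12, 56, 56, -120],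
    [12, 45, 320, -384], [12, 45, -252, 320], [12, 45, 210, -252], [12, 45, 56, -120],
    [12, -32, -120, 144], [12, -32, -32, 56], [12, -32, -32, 45], [12, -21, 320, -384],
    [12, -21, -252, 320], [12, -21, 144, 144], [12, -21, -120, 320], [12, -21, -120, 144],
    [12, -21, 56, -384], [12, -21, 56, 144], [12, -21, 56, -120], [12, -21, -32, 320],
    [12, -21, -32, -120], [12, -21, -32, 56], [12, -21, -32, 45], [12, -21, -32, -32],
    [12, -21, -21, 45], [12, 12, 45, 210], [12, 12, 45, 56], [12, 12, -21, 56], [12, 12, -21, -32],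
    [12, 12, 12, -32], [12, 12, 12, -21], [-10, 144, 144, -384], [-10, -120, -120, 144],
    [-10, 56, 210, -252], [-10, 45, 320, -384], [-10, 45, 210, -252], [-10, 45, 144, -252],
    [-10, 45, -120, -252], [-10, 45, -120, 210], [-10, 45, -120, 144], [-10, 45, 56, -252],
    [-10, 45, 56, -120], [-10, 45, 45, 45], [-10, -32, 320, -384], [-10, -32, 56, -120],
    [-10, -32, 45, 56], [-10, -32, -32, 45], [-10, -32, -32, -32], [-10, -21, 210, -252],
    [-10, -21, -120, 210], [-10, -21, -120, 144], [-10, -21, 45, -120], [-10, -21, 45, 45],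
    [-10, -21, -32, 56], [-10, -21, -21, 56], [-10, -21, -21, 45], [-10, -21, -21, -21],
    [-10, 12, 144, -252], [-10, 12, 45, -384], [-10, 12, 45, 144], [-10, 12, 45, -120],
    [-10, 12, -32, 45], [-10, 12, -21, 210], [-10, 12, -21, 144], [-10, 12, 12, -120],
    [-10, 12, 12, 45], [-10, 12, 12, -21], [-10, -10, -120, 144], [-10, -10, -32, 56],
    [-10, -10, -32, 45], [-10, -10, -21, 320], [-10, -10, -21, -120], [-10, -10, -21, 56],
    [-10, -10, -21, 45], [-10, -10, -21, -32], [-10, -10, 12, -21], [-10, -10, 12, 12],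
    [-10, -10, -10, 45]]

/-- Blocks for the prime 5, index 2, at a centralising involution. -/
def rows5E2 : List (ℕ × List (ℤ × ℤ)) :=
  [
    (20, [(21, 1)]), (30, [(21, 1)]), (40, [(21, 1)]), (60, [(21, 1)]), (80, [(21, 1)]),
    (120, [(21, 1)]), (160, [(21, 1)]), (240, [(21, 1)]), (320, [(21, 1)]), (480, [(21, 1)]),
    (640, [(21, 1)]), (960, [(21, 1)]), (1920, [(21, -19)]), (1920, [(21, 1)])]

/-- Blocks for the prime 5, index 4, at a centralising involution. -/
def rows5E4 : List (ℕ × List (ℤ × ℤ)) :=
  [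
    (160, [(-99, 1), (-154, 6), (231, -9)]), (160, [(21, 1), (-154, 6), (231, -9)]),
    (160, [(21, 1), (-99, 1), (231, -9)]), (160, [(21, 1), (-99, 1), (-154, 6)]),
    (320, [(126, -14), (126, 6), (-154, 6)]), (320, [(126, 6), (126, -14), (-154, 6)]),
    (320, [(126, 6), (126, 6), (-154, -14)]), (320, [(-99, 1), (-154, -14), (231, 11)]),
    (320, [(-99, 1), (-154, 6), (231, -9)]), (320, [(-99, 1), (126, -14), (-154, 6)]),
    (320, [(-99, 1), (126, 6), (-154, -14)]), (320, [(-99, 1), (126, 6), (-154, 6)]),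
    (320, [(-99, 1), (126, -14), (126, 6)]), (320, [(-99, 1), (126, 6), (126, -14)]),
    (320, [(-99, 1), (126, 6), (126, 6)]), (320, [(21, 1), (-154, -14), (231, 11)]),
    (320, [(21, 1), (-154, 6), (231, -9)]), (320, [(21, 1), (-99, 1), (231, -9)]),
    (320, [(21, 1), (-99, 1), (231, 11)]), (320, [(21, 1), (-99, 1), (-154, -14)]),
    (320, [(21, 1), (-99, 1), (-154, 6)]), (640, [(126, -14), (126, 6), (-154, 6)]),
    (640, [(126, 6), (126, -14), (-154, 6)]), (640, [(126, 6), (126, 6), (-154, -14)]),
    (640, [(-99, 1), (-154, -14), (231, 11)]), (640, [(-99, 1), (-154, 6), (231, -9)]),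
    (640, [(-99, 1), (-154, 6), (231, 11)]), (640, [(-99, 1), (126, -14), (-154, 6)]),
    (640, [(-99, 1), (126, 6), (-154, -14)]), (640, [(-99, 1), (126, 6), (-154, 6)]),
    (640, [(-99, 1), (126, -14), (126, 6)]), (640, [(-99, 1), (126, 6), (126, -14)]),
    (640, [(-99, 1), (126, 6), (126, 6)]), (640, [(21, -19), (-154, 6), (231, 11)]),
    (640, [(21, 1), (-154, -14), (231, 11)]), (640, [(21, 1), (-154, 6), (231, -9)]),
    (640, [(21, -19), (-99, 1), (231, 11)]), (640, [(21, 1), (-99, 1), (231, -9)]),
    (640, [(21, 1), (-99, 1), (231, 11)]), (640, [(21, -19), (-99, 1), (-154, 6)]),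
    (640, [(21, 1), (-99, 1), (-154, -14)]), (640, [(21, 1), (-99, 1), (-154, 6)]),
    (1920, [(-99, 21), (-154, 6), (231, -29)]), (1920, [(66, 26), (176, 16), (-264, -24)]),
    (1920, [(66, -14), (66, -14), (-154, 26)]), (1920, [(66, 6), (66, 26), (-154, -14)]),
    (1920, [(66, 26), (66, 6), (-154, -14)]), (1920, [(-44, -4), (-44, -4), (66, 26)]),
    (1920, [(-44, 16), (-44, 16), (66, -34)]), (1920, [(21, 1), (231, 31), (-264, -24)]),
    (1920, [(21, -19), (176, 16), (-264, -24)]), (1920, [(21, 1), (-154, 6), (231, -29)]),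
    (1920, [(21, 1), (-99, 21), (231, -29)]), (1920, [(21, 1), (-99, 21), (-154, 6)]),
    (1920, [(21, -19), (66, 26), (-264, -24)]), (1920, [(21, -19), (66, 26), (176, 16)]),
    (1920, [(21, -19), (66, 6), (-154, -14)]), (1920, [(21, -19), (66, 26), (-154, -14)]),
    (1920, [(21, 1), (66, -14), (-154, 26)]), (1920, [(21, -19), (66, 6), (66, 26)]),
    (1920, [(21, -19), (66, 26), (66, 6)]), (1920, [(21, 1), (66, -14), (66, -14)]),
    (1920, [(21, -19), (-44, -4), (66, 26)]), (1920, [(21, 1), (-44, 16), (66, -34)]),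
    (1920, [(21, -19), (-44, -4), (-44, -4)]), (1920, [(21, 1), (-44, 16), (-44, 16)]),
    (1920, [(11, -9), (231, 31), (-264, -24)]), (1920, [(11, -9), (21, 1), (-264, -24)]),
    (1920, [(11, -9), (21, 1), (231, 31)]), (4480, [(11, -9), (-99, 41), (231, -49)])]

/-- Blocks for the prime 7, index 2, at a centralising involution. -/
def rows7E2 : List (ℕ × List (ℤ × ℤ)) :=
  []

/-- Blocks for the prime 7, index 3, at a centralising involution. -/
def rows7E3 : List (ℕ × List (ℤ × ℤ)) :=
  [
    (336, [(-55, 1), (120, 8)]), (448, [(-55, 1), (120, 8)]), (448, [(-55, 1), (99, -13)]),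
    (672, [(-55, 1), (120, 8)]), (896, [(-55, 1), (120, 8)]), (896, [(-55, 1), (99, -13)]),
    (1344, [(-55, 1), (120, 8)]), (2688, [(-55, 1), (120, 8)]), (4032, [(-55, 29), (120, -48)]),
    (8064, [(-55, 29), (120, -48)])]

/-- Blocks for the prime 7, index 6, at a centralising involution. -/
def rows7E6 : List (ℕ × List (ℤ × ℤ)) :=
  [
    (448, [(-55, 1), (99, -13), (120, 8), (330, -6), (-440, 8)]),
    (448, [(-55, 1), (-55, 1), (120, 8), (330, -6), (-440, 8)]),
    (448, [(-55, 1), (-55, 1), (99, -13), (330, -6), (-440, 8)]),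
    (448, [(-55, 1), (-55, 1), (99, -13), (120, 8), (-440, 8)]),
    (448, [(-55, 1), (-55, 1), (99, -13), (120, 8), (330, -6)]),
    (448, [(-55, 1), (-55, 1), (-55, 1), (99, -13), (120, 8)]),
    (448, [(-55, 1), (-55, 1), (-55, 1), (-55, 1), (120, 8)]),
    (448, [(-55, 1), (-55, 1), (-55, 1), (-55, 1), (99, -13)]),
    (672, [(-55, 1), (120, 8), (-132, -20), (-132, 8), (176, 8)]),
    (672, [(-55, 1), (120, 8), (-132, 8), (-132, -20), (176, 8)]),
    (672, [(22, -6), (120, 8), (-132, -20), (-132, 8), (176, 8)]),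
    (672, [(22, -6), (120, 8), (-132, 8), (-132, -20), (176, 8)]),
    (672, [(22, -6), (-55, 1), (-132, -20), (-132, 8), (176, 8)]),
    (672, [(22, -6), (-55, 1), (-132, 8), (-132, -20), (176, 8)]),
    (672, [(22, -6), (-55, 1), (120, 8), (-132, -20), (176, 8)]),
    (672, [(22, -6), (-55, 1), (120, 8), (-132, 8), (176, 8)]),
    (672, [(22, -6), (-55, 1), (120, 8), (-132, -20), (-132, 8)]),
    (672, [(22, -6), (-55, 1), (120, 8), (-132, 8), (-132, -20)]),
    (896, [(22, -6), (22, -6), (99, 15), (-132, -20), (-132, 8)]),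
    (896, [(22, -6), (22, -6), (99, 15), (-132, 8), (-132, -20)]),
    (1120, [(120, -20), (-132, 8), (-132, 8), (-132, 8), (176, 8)]),
    (1120, [(99, -13), (-132, 8), (-132, 8), (-132, 8), (176, 8)]),
    (1120, [(99, -13), (120, -20), (-132, 8), (-132, 8), (176, 8)]),
    (1120, [(99, -13), (120, -20), (-132, 8), (-132, 8), (-132, 8)]),
    (1344, [(99, 15), (99, 15), (120, 8), (-132, -20), (-132, -20)]),
    (1344, [(-55, 1), (120, 8), (-132, -20), (-132, 8), (176, 8)]),
    (1344, [(-55, 1), (120, 8), (-132, 8), (-132, -20), (176, 8)]),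
    (1344, [(-55, 1), (99, 15), (120, 8), (-132, -20), (-132, -20)]),
    (1344, [(-55, 1), (99, 15), (99, 15), (-132, -20), (-132, -20)]),
    (1344, [(-55, 1), (99, 15), (99, 15), (120, 8), (-132, -20)]),
    (1344, [(22, -6), (120, 8), (-132, -20), (-132, 8), (176, 8)]),
    (1344, [(22, -6), (120, 8), (-132, 8), (-132, -20), (176, 8)]),
    (1344, [(22, -6), (-55, 1), (-132, -20), (-132, 8), (176, 8)]),
    (1344, [(22, -6), (-55, 1), (-132, 8), (-132, -20), (176, 8)]),
    (1344, [(22, -6), (-55, 1), (120, 8), (-132, -20), (176, 8)]),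
    (1344, [(22, -6), (-55, 1), (120, 8), (-132, 8), (176, 8)]),
    (1344, [(22, -6), (-55, 1), (120, 8), (-132, -20), (-132, 8)]),
    (1344, [(22, -6), (-55, 1), (120, 8), (-132, 8), (-132, -20)]),
    (1344, [(22, -6), (22, -6), (99, 15), (-132, -20), (-132, 8)]),
    (1344, [(22, -6), (22, -6), (99, 15), (-132, 8), (-132, -20)]),
    (2688, [(99, 15), (99, 15), (120, 8), (-132, -20), (-132, -20)]),
    (2688, [(-55, 1), (-132, 8), (-132, 8), (-132, 8), (330, -34)]),
    (2688, [(-55, 1), (99, 15), (120, 8), (-132, -20), (-132, -20)]),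
    (2688, [(-55, 1), (99, 15), (99, 15), (-132, -20), (-132, -20)]),
    (2688, [(-55, 1), (99, 15), (99, 15), (120, 8), (-132, -20)]),
    (2688, [(22, -6), (22, -6), (99, 15), (-132, -20), (-132, 8)]),
    (2688, [(22, -6), (22, -6), (99, 15), (-132, 8), (-132, -20)]),
    (4032, [(-55, -27), (120, 36), (176, 8), (176, 8), (-440, -20)]),
    (4032, [(22, -6), (120, 36), (176, 8), (176, 8), (-440, -20)]),
    (4032, [(22, -6), (-55, -27), (176, 8), (176, 8), (-440, -20)]),
    (4032, [(22, -6), (-55, -27), (120, 36), (176, 8), (-440, -20)]),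
    (4032, [(22, -6), (-55, -27), (120, 36), (176, 8), (176, 8)]),
    (8064, [(22, -6), (22, -6), (-55, 29), (120, -48), (-132, 36)]),
    (8064, [(22, -6), (22, -6), (22, -6), (120, -48), (-132, 36)]),
    (8064, [(22, -6), (22, -6), (22, -6), (-55, 29), (-132, 36)]),
    (8064, [(22, -6), (22, -6), (22, -6), (-55, 29), (120, -48)])]

/-- All blocks for the prime 5 at a centralising involution. -/
def rows5 : List (ℕ × ℕ × List (ℤ × ℤ)) :=
  (rows5E2.map fun r => (r.1, 2, r.2)) ++ rows5E4.map fun r => (r.1, 4, r.2)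

/-- All blocks for the prime 7 at a centralising involution. -/
def rows7 : List (ℕ × ℕ × List (ℤ × ℤ)) :=
  (rows7E3.map fun r => (r.1, 3, r.2)) ++ rows7E6.map fun r => (r.1, 6, r.2)

/-- Members of the block of 11 forced by the block of 5. -/
def forced5 : List (ℕ × (ℕ × ℤ)) :=
  [
    (20, (21, 1)), (30, (21, 1)), (40, (21, 1)), (60, (21, 1)), (80, (21, 1)), (120, (21, 1)),
    (160, (21, 1)), (240, (21, 1)), (320, (21, 1)), (480, (21, 1)), (640, (21, 1)), (960, (21, 1)),
    (1920, (21, -19)), (1920, (21, 1)), (320, (126, -14)), (320, (126, 6)), (640, (126, -14)),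
    (640, (126, 6)), (640, (21, -19)), (4480, (144, -16))]

/-- Exceptional degree and sum of squares of degrees for 11, given an involution centralising at 5. -/
def keys5 : List (ℤ × ℤ) :=
  [
    (-105, 18418), (126, 62077), (60, 6043)]

/-- Members of the block of 11 forced by the block of 7. -/
def forced7 : List (ℕ × (ℕ × ℤ)) :=
  [
    (336, (120, 8)), (448, (120, 8)), (448, (45, -11)), (672, (120, 8)), (896, (120, 8)),
    (896, (45, -11)), (1344, (120, 8)), (2688, (120, 8)), (4032, (120, -48)), (8064, (120, -48)),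
    (1120, (120, -20)), (4032, (120, 36))]

/-- Exceptional degree and sum of squares of degrees for 11, given an involution centralising at 7. -/
def keys7 : List (ℤ × ℤ) :=
  [
    (5, 36304), (-105, 16966), (60, 37261), (280, 103041), (126, 133225), (126, 40297), (126, 60625)]

/-- Centraliser orders of the involutions centralising at 5. -/
def orders5 : List ℕ :=
  [20, 30, 40, 60, 80, 120, 160, 240, 320, 480, 640, 960, 1920, 4480]

/-- Blocks of a self-centralising Sylow 7-subgroup at these involutions. -/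
def self7 : List (ℕ × List (ℤ × ℤ)) :=
  [
    (80, [(-55, 5), (99, -1)]), (120, [(-55, 5), (120, 0)]), (160, [(-55, 5), (120, 0)]),
    (160, [(-55, 5), (99, -1)]), (240, [(-55, 5), (120, 0)]), (320, [(-55, 5), (120, 0)]),
    (320, [(-55, 5), (99, -1)]), (480, [(-55, 5), (120, 0)]), (640, [(-55, 5), (120, 0)]),
    (640, [(-55, -15), (99, 19)]), (640, [(-55, 5), (99, -1)]), (960, [(-55, 5), (120, 0)]),
    (960, [(-55, 5), (99, -21)]), (1920, [(-55, 5), (120, 0)]), (1920, [(-55, 5), (99, -21)]),
    (4480, [(-55, -15), (120, 40)]), (4480, [(-55, 5), (120, 0)]), (4480, [(-55, 25), (120, -40)]),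
    (4480, [(-55, -15), (99, 19)]), (4480, [(-55, 5), (99, -1)]), (4480, [(-55, 5), (99, -21)])]

end Cfsg.Agent.H86.MTwentyTwo.FiveSeven.Table
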